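import Mathlib
import Cfsg.Agent.Lib.PSLThree.Defs
import Cfsg.Agent.Lib.G2Orders.Semisimple

/-!
# Eigenvalues of elements of finite order prime to the characteristic

`eig g` is the multiset of eigenvalues of `g` in the algebraic closure.
-/

set_option autoImplicit false

namespace Cfsg.Agent.PSLThree

open Matrix Polynomial

variable {F : Type*} [Field F]

local notation "GL3" => GL (Fin 3) F
local notation "Fb" => AlgebraicClosure F

/-- the matrix over the algebraic closure -/
noncomputable def bar (g : GL (Fin 3) F) : Matrix (Fin 3) (Fin 3) (AlgebraicClosure F) :=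
  (g : Matrix (Fin 3) (Fin 3) F).map (algebraMap F (AlgebraicClosure F))

/-- the eigenvalues in the algebraic closure -/
noncomputable def eig (g : GL (Fin 3) F) : Multiset (AlgebraicClosure F) := (bar g).charpoly.roots

theorem bar_mul (g h : GL3) : bar (g * h) = bar g * bar h := by
  rw [bar, bar, bar, Units.val_mul, Matrix.map_mul]

theorem bar_one : bar (1 : GL3) = 1 := by simp [bar]

theorem bar_pow (g : GL3) (k : ℕ) : bar (g ^ k) = bar g ^ k := by
  induction k with
  | zero => simp [bar_one]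
  | succ k ih => rw [pow_succ, pow_succ, bar_mul, ih]

theorem bar_injective : Function.Injective (bar : GL3 → Matrix (Fin 3) (Fin 3) Fb) := fun _ _ e =>
  Units.ext (Matrix.map_injective (FaithfulSMul.algebraMap_injective F Fb) e)

theorem bar_det (g : GL3) : (bar g).det = algebraMap F Fb (g : Matrix (Fin 3) (Fin 3) F).det := by
  rw [bar, ← RingHom.mapMatrix_apply, ← RingHom.map_det]

theorem eig_conj (k g : GL3) : eig (k * g * k⁻¹) = eig g := by
  simp only [eig, bar, Matrix.charpoly_map]
  rw [Units.val_mul, Units.val_mul, Matrix.coe_units_inv, Matrix.charpoly_units_conj]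

theorem card_eig (g : GL3) : (eig g).card = 3 := by
  rw [eig, IsAlgClosed.card_roots_eq_natDegree, Matrix.charpoly_natDegree_eq_dim, Fintype.card_fin]

/-- diagonal form -/
theorem exists_diagonal {n : ℕ} (hn : (n : F) ≠ 0) {g : GL3} (hg : g ^ n = 1) :
    ∃ (T : GL (Fin 3) Fb) (μ : Fin 3 → Fb), (T : Matrix (Fin 3) (Fin 3) Fb) * bar g = diagonal μ * T ∧
      eig g = Multiset.map μ Finset.univ.val ∧ ∀ i, μ i ^ n = 1 := by
  have hn' : (n : Fb) ≠ 0 := fun h => hn ((FaithfulSMul.algebraMap_injective F Fb) (by rw [map_natCast, h, map_zero]))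
  obtain ⟨P, μ, hP, hPM⟩ := Cfsg.Agent.G2Orders.exists_diag hn' (M := bar g) (by rw [← bar_pow, hg, bar_one])
  obtain ⟨T, hT⟩ := (Matrix.isUnit_iff_isUnit_det P).2 (by rw [hP]; exact isUnit_one)
  rw [← hT] at hPM
  have hd : diagonal μ = (T : Matrix (Fin 3) (Fin 3) Fb) * bar g * ((T⁻¹ : GL (Fin 3) Fb) : Matrix (Fin 3) (Fin 3) Fb) := by
    rw [hPM, Matrix.mul_assoc, Units.mul_inv, Matrix.mul_one]
  refine ⟨T, μ, hPM, ?_, fun i => ?_⟩
  · rw [eig, ← Matrix.charpoly_units_conj T (bar g), ← Matrix.coe_units_inv, ← hd, Matrix.charpoly_diagonal,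
      Finset.prod_eq_multiset_prod]
    have h3 := Polynomial.roots_multiset_prod_X_sub_C (Multiset.map μ Finset.univ.val)
    rwa [Multiset.map_map] at h3
  · have : diagonal μ ^ n = 1 := by
      rw [hd, Units.conj_pow, ← bar_pow, hg, bar_one, Matrix.mul_one, Units.mul_inv]
    rw [Matrix.diagonal_pow, ← Matrix.diagonal_one] at this
    exact congrFun (Matrix.diagonal_injective this) i

theorem eig_pow {n : ℕ} (hn : (n : F) ≠ 0) {g : GL3} (hg : g ^ n = 1) (k : ℕ) :
    eig (g ^ k) = (eig g).map (· ^ k) := by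
  obtain ⟨T, μ, h, he, -⟩ := exists_diagonal hn hg
  have hd : diagonal μ = (T : Matrix (Fin 3) (Fin 3) Fb) * bar g * ((T⁻¹ : GL (Fin 3) Fb) : Matrix (Fin 3) (Fin 3) Fb) := by
    rw [h, Matrix.mul_assoc, Units.mul_inv, Matrix.mul_one]
  rw [he, Multiset.map_map, eig, ← Matrix.charpoly_units_conj T (bar (g ^ k)), ← Matrix.coe_units_inv, bar_pow, ← Units.conj_pow, ← hd,
    Matrix.diagonal_pow, Matrix.charpoly_diagonal, Finset.prod_eq_multiset_prod]
  have h3 := Polynomial.roots_multiset_prod_X_sub_C (Multiset.map (μ ^ k) Finset.univ.val)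
  rw [Multiset.map_map] at h3
  exact h3.trans rfl

theorem pow_eq_one_of_mem {n : ℕ} (hn : (n : F) ≠ 0) {g : GL3} (hg : g ^ n = 1) {z : Fb} (hz : z ∈ eig g) :
    z ^ n = 1 := by
  obtain ⟨T, μ, -, he, hp⟩ := exists_diagonal hn hg
  rw [he, Multiset.mem_map] at hz
  obtain ⟨i, -, rfl⟩ := hz
  exact hp i

theorem eq_one_of_eig {n : ℕ} (hn : (n : F) ≠ 0) {g : GL3} (hg : g ^ n = 1) (h : ∀ z ∈ eig g, z = 1) :
    g = 1 := by
  obtain ⟨T, μ, hT, he, -⟩ := exists_diagonal hn hg
  have hμ : μ = 1 := funext fun i => h _ (by rw [he]; exact Multiset.mem_map_of_mem _ (Finset.mem_univ i))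
  refine bar_injective ?_
  rw [bar_one]
  rw [hμ, Matrix.diagonal_one', Matrix.one_mul] at hT
  exact (Units.mul_right_inj T).1 (hT.trans (mul_one _).symm)

theorem prod_eig (g : GL3) : (eig g).prod = algebraMap F Fb (g : Matrix (Fin 3) (Fin 3) F).det := by
  rw [eig, ← Matrix.det_eq_prod_roots_charpoly, bar_det]

theorem sum_eig (g : GL3) : (eig g).sum = algebraMap F Fb (g : Matrix (Fin 3) (Fin 3) F).trace := by
  rw [eig, ← Matrix.trace_eq_sum_roots_charpoly, bar]
  exact (AddMonoidHom.map_trace (algebraMap F Fb).toAddMonoidHom _).symm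

/-- the eigenvalues are permuted by the Frobenius of `F` -/
theorem eig_frob [Fintype F] (g : GL3) : (eig g).map (· ^ Fintype.card F) = eig g := by
  obtain ⟨p, hc⟩ := CharP.exists F
  have := hc
  obtain ⟨a, hp, ha⟩ := FiniteField.card F p
  have : Fact p.Prime := ⟨hp⟩
  have : CharP Fb p := charP_of_injective_algebraMap (FaithfulSMul.algebraMap_injective F Fb) p
  have hf : (iterateFrobenius Fb p a).comp (algebraMap F Fb) = algebraMap F Fb := RingHom.ext fun x => by
    rw [RingHom.comp_apply, iterateFrobenius_def, ← map_pow, ← ha, FiniteField.pow_card]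
  have key : ((bar g).charpoly.map (iterateFrobenius Fb p a)) = (bar g).charpoly := by
    rw [bar, Matrix.charpoly_map, Polynomial.map_map, hf]
  have h := congrArg Polynomial.roots key
  rw [Polynomial.Splits.roots_map (IsAlgClosed.splits _)] at h
  rw [eig, ha]
  refine (Multiset.map_congr rfl fun z _ => ?_).trans h
  rw [iterateFrobenius_def]

end Cfsg.Agent.PSLThree
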