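import Mathlib
import Cfsg.Agent.Lib.PSLThree.Basic.Eigen

/-!
# A common eigenframe for commuting elements of finite order prime to the characteristic
-/

set_option autoImplicit false

namespace Cfsg.Agent.PSLThree

open Matrix

variable {F : Type*} [Field F]

local notation "GL3" => GL (Fin 3) F
local notation "Fb" => AlgebraicClosure F
local notation "MatB" => Matrix (Fin 3) (Fin 3) (AlgebraicClosure F)

theorem span_common {ι : Type*} (M : ι → Matrix (Fin 3) (Fin 3) (AlgebraicClosure F))
    (hc : ∀ i j, Commute (M i) (M j))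
    (hfin : ∀ i, ∃ n : ℕ, (n : AlgebraicClosure F) ≠ 0 ∧ M i ^ n = 1) :
    Submodule.span Fb {v : Fin 3 → Fb | ∀ i, ∃ c : Fb, M i *ᵥ v = c • v} = ⊤ := by
  let f : ι → Module.End Fb (Fin 3 → Fb) := fun i => Matrix.toLinAlgEquiv' (M i)
  have hss : ∀ i, (f i).IsSemisimple := fun i => by
    obtain ⟨n, hn, he⟩ := hfin i
    refine Module.End.isSemisimple_of_squarefree_aeval_eq_zero
      (Polynomial.X_pow_sub_one_separable_iff.2 hn).squarefree ?_
    rw [map_sub, map_pow, Polynomial.aeval_X, map_one, ← map_pow, he, map_one, sub_self]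
  have htop := Module.End.iSup_iInf_maxGenEigenspace_eq_top_of_iSup_maxGenEigenspace_eq_top_of_commute f
    (fun i j _ => (hc i j).map Matrix.toLinAlgEquiv') (fun i => Module.End.iSup_maxGenEigenspace_eq_top (f i))
  refine top_le_iff.1 (htop ▸ iSup_le fun χ v hv => Submodule.subset_span fun i => ⟨χ i, ?_⟩)
  have h1 := (Submodule.mem_iInf _).1 hv i
  rw [(hss i).isFinitelySemisimple.maxGenEigenspace_eq_eigenspace] at h1
  exact Module.End.mem_eigenspace_iff.1 h1

/-- commuting elements of finite order prime to the characteristic are diagonal in a common frame -/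
theorem exists_frame (S : Set GL3) (hc : ∀ g ∈ S, ∀ h ∈ S, Commute g h)
    (hfin : ∀ g ∈ S, ∃ n : ℕ, (n : F) ≠ 0 ∧ g ^ n = 1) :
    ∃ T : GL (Fin 3) (AlgebraicClosure F), ∀ g ∈ S, ∃ μ : Fin 3 → Fb,
      bar g = (T : MatB) * diagonal μ * ((T⁻¹ : GL (Fin 3) (AlgebraicClosure F)) : MatB) := by
  classical
  have hspan := span_common (fun g : S => bar (g : GL3))
    (fun g h => by
      show bar (g : GL3) * bar (h : GL3) = bar (h : GL3) * bar (g : GL3)
      rw [← bar_mul, ← bar_mul, (hc _ g.2 _ h.2).eq])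
    (fun g => by
      obtain ⟨n, hn, he⟩ := hfin _ g.2
      refine ⟨n, fun h => hn ((FaithfulSMul.algebraMap_injective F Fb) (by rw [map_natCast, h, map_zero])), ?_⟩
      rw [← bar_pow, he, bar_one])
  obtain ⟨b, hbE, hbspan, hbli⟩ := exists_linearIndependent Fb
    {v : Fin 3 → Fb | ∀ g : S, ∃ c : Fb, bar (g : GL3) *ᵥ v = c • v}
  rw [hspan] at hbspan
  have B : Module.Basis b Fb (Fin 3 → Fb) := Module.Basis.mk hbli (by rw [Subtype.range_coe, hbspan])
  have : Fintype b := FiniteDimensional.fintypeBasisIndex B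
  have hb3 : Fintype.card b = 3 := by rw [← Module.finrank_eq_card_basis B, Module.finrank_fin_fun]
  let e : Fin 3 ≃ b := (Fintype.equivFinOfCardEq hb3).symm
  let v : Fin 3 → (Fin 3 → Fb) := fun k => (e k).1
  have hli : LinearIndependent Fb v := hbli.comp e e.injective
  let Q : MatB := Matrix.of fun i k => v k i
  obtain ⟨T, hT⟩ := (Matrix.linearIndependent_cols_iff_isUnit (A := Q)).1 hli
  refine ⟨T, fun g hg => ?_⟩
  choose μ hμ using fun k => hbE (e k).2 ⟨g, hg⟩
  refine ⟨μ, ?_⟩
  have hmul : bar g * (T : MatB) = (T : MatB) * diagonal μ := by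
    ext i k
    rw [hT, Matrix.mul_diagonal]
    show (bar g *ᵥ v k) i = v k i * μ k
    rw [hμ k, Pi.smul_apply, smul_eq_mul, mul_comm]
  rw [← hmul, Matrix.mul_assoc, Units.mul_inv, Matrix.mul_one]

end Cfsg.Agent.PSLThree
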