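import Mathlib
import Cfsg.Agent.Lib.PSLThree.Defs

/-!
# Lifts of elements of order prime to three from `Bar G`

For `G ≤ SL₃(F)` the scalars in `G` have order dividing three, so an element of `Bar G` killed by `n`
prime to three has exactly one lift killed by `n`.
-/

set_option autoImplicit false

namespace Cfsg.Agent.PSLThree

open Matrix

variable {F : Type*} [Field F] {G : Subgroup (GL (Fin 3) F)}

local notation "GL3" => GL (Fin 3) F
local notation "Sc" => Cfsg.Geo.scalars (Fin 3) F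

theorem det_eq_one (hG : G ≤ Cfsg.Geo.specialLinear (Fin 3) F) {g : GL3} (hg : g ∈ G) :
    (g : Matrix (Fin 3) (Fin 3) F).det = 1 := by
  have := congrArg Units.val (MonoidHom.mem_ker.1 (hG hg))
  simpa [Matrix.GeneralLinearGroup.val_det_apply] using this

theorem scalar_comm {x : GL3} (hx : x ∈ Sc) (g : GL3) : Commute x g := by
  obtain ⟨c, hc⟩ := (Cfsg.Geo.mem_scalars_iff x).1 hx
  refine Units.ext ?_
  rw [Units.val_mul, Units.val_mul, hc, Matrix.smul_mul, Matrix.one_mul, Matrix.mul_smul, Matrix.mul_one]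

theorem scalar_cube (hG : G ≤ Cfsg.Geo.specialLinear (Fin 3) F) {x : GL3} (hx : x ∈ G)
    (hs : x ∈ Sc) : x ^ 3 = 1 := by
  obtain ⟨c, hc⟩ := (Cfsg.Geo.mem_scalars_iff x).1 hs
  have hd := det_eq_one hG hx
  rw [hc, Matrix.det_smul, Matrix.det_one, mul_one, Fintype.card_fin] at hd
  refine Units.ext ?_
  rw [Units.val_pow_eq_pow_val, hc, smul_pow, one_pow, hd, one_smul, Units.val_one]

/-- a scalar of `G` killed by an exponent prime to three is trivial -/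
theorem scalar_eq_one (hG : G ≤ Cfsg.Geo.specialLinear (Fin 3) F) {n : ℕ} (hn : n.Coprime 3) {x : GL3}
    (hx : x ∈ G) (hs : x ∈ Sc) (h : x ^ n = 1) : x = 1 := by
  have := pow_gcd_eq_one.2 ⟨h, scalar_cube hG hx hs⟩
  rwa [hn, pow_one] at this

theorem mk_eq_one {g : GL3} {hg : g ∈ G} :
    ((⟨g, hg⟩ : G) : Bar G) = 1 ↔ g ∈ Sc := by
  rw [QuotientGroup.eq_one_iff, Subgroup.mem_subgroupOf]

theorem mk_eq {g h : GL3} {hg : g ∈ G} {hh : h ∈ G} :
    ((⟨g, hg⟩ : G) : Bar G) = ((⟨h, hh⟩ : G) : Bar G) ↔ g⁻¹ * h ∈ Sc := by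
  rw [QuotientGroup.eq, Subgroup.mem_subgroupOf]
  rfl

theorem exists_rep (x : Bar G) : ∃ (g : GL3) (hg : g ∈ G), ((⟨g, hg⟩ : G) : Bar G) = x := by
  obtain ⟨⟨g, hg⟩, rfl⟩ := QuotientGroup.mk_surjective x
  exact ⟨g, hg, rfl⟩

theorem exists_lift (hG : G ≤ Cfsg.Geo.specialLinear (Fin 3) F) {n : ℕ} (hn : n.Coprime 3) {x : Bar G}
    (hx : x ^ n = 1) : ∃ (g : GL3) (hg : g ∈ G), g ^ n = 1 ∧ ((⟨g, hg⟩ : G) : Bar G) = x := by
  obtain ⟨g, hg, rfl⟩ := exists_rep x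
  rw [← QuotientGroup.mk_pow, QuotientGroup.eq_one_iff, Subgroup.mem_subgroupOf] at hx
  have hc : g ^ n ∈ Sc := hx
  have hz : (g ^ n) ^ (2 * n) ∈ Sc := pow_mem hc _
  refine ⟨g * (g ^ n) ^ (2 * n), mul_mem hg (pow_mem (pow_mem hg _) _), ?_, ?_⟩
  · rw [(scalar_comm hz g).symm.mul_pow, ← pow_mul]
    obtain ⟨k, hk⟩ : 3 ∣ 1 + 2 * n * n := by
      have h3 : n % 3 ≠ 0 := fun h => by
        have := hn.symm
        rw [Nat.Prime.coprime_iff_not_dvd Nat.prime_three] at this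
        exact this (Nat.dvd_of_mod_eq_zero h)
      rw [Nat.dvd_iff_mod_eq_zero, Nat.add_mod, Nat.mul_mod, Nat.mul_mod 2 n]
      rcases (show n % 3 = 1 ∨ n % 3 = 2 by omega) with h | h <;> rw [h]
    rw [← pow_succ', show 2 * n * n + 1 = 3 * k by omega, pow_mul,
      scalar_cube hG (pow_mem hg _) hc, one_pow]
  · refine mk_eq.2 ?_
    rw [_root_.mul_inv_rev, inv_mul_cancel_right]
    exact inv_mem hz

theorem lift_unique (hG : G ≤ Cfsg.Geo.specialLinear (Fin 3) F) {n : ℕ} (hn : n.Coprime 3) {g h : GL3}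
    (hg : g ∈ G) (hh : h ∈ G) (hgn : g ^ n = 1) (hhn : h ^ n = 1) (hs : g⁻¹ * h ∈ Sc) : g = h := by
  have hc : Commute g⁻¹ h := by
    have := scalar_comm hs g
    refine Commute.inv_left ?_
    show g * h = h * g
    calc g * h = g * (g * (g⁻¹ * h)) := by group
      _ = g * ((g⁻¹ * h) * g) := by rw [this.eq]
      _ = h * g := by group
  refine (inv_mul_eq_one.1 (scalar_eq_one hG hn (mul_mem (inv_mem hg) hh) hs ?_))
  rw [hc.mul_pow, inv_pow, hgn, hhn, inv_one, one_mul]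

/-- conjugate images have conjugate canonical lifts -/
theorem conj_lift (hG : G ≤ Cfsg.Geo.specialLinear (Fin 3) F) {n : ℕ} (hn : n.Coprime 3) {g h k : GL3}
    (hg : g ∈ G) (hh : h ∈ G) (hk : k ∈ G) (hgn : g ^ n = 1) (hhn : h ^ n = 1)
    (hs : (k * g * k⁻¹)⁻¹ * h ∈ Sc) : k * g * k⁻¹ = h :=
  lift_unique hG hn (mul_mem (mul_mem hk hg) (inv_mem hk)) hh (by rw [conj_pow, hgn, mul_one, mul_inv_cancel]) hhn hs

end Cfsg.Agent.PSLThree
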