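import Mathlib
import Cfsg.Agent.Lib.PSLThree.Basic.Lift
import Cfsg.Agent.Lib.Forms.Max.SL3.SympType.Roots

/-!
# Unipotent elements and transvections
-/

set_option autoImplicit false

namespace Cfsg.Agent.PSLThree

open Matrix
open Cfsg.Agent.Forms.Max.SL3.Singer (Tr)

variable {F : Type*} [Field F] {G : Subgroup (GL (Fin 3) F)}

local notation "GL3" => GL (Fin 3) F
local notation "Mat" => Matrix (Fin 3) (Fin 3) F

theorem sub_one_cube (p : ℕ) [Fact p.Prime] [CharP F p] {g : GL3} {k : ℕ} (hg : g ^ p ^ k = 1) :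
    ((g : Mat) - 1) ^ 3 = 0 := by
  have h : ((g : Mat) - 1) ^ p ^ k = 0 := by
    rw [sub_pow_char_pow_of_commute p k (Commute.one_right _), ← Units.val_pow_eq_pow_val, hg, one_pow,
      Units.val_one, sub_self]
  have hnil : IsNilpotent ((g : Mat) - 1) := ⟨_, h⟩
  have := Matrix.aeval_self_charpoly ((g : Mat) - 1)
  rw [Matrix.isNilpotent_charpoly_sub_pow_of_isNilpotent hnil |>.eq_zero |> sub_eq_zero.1, map_pow,
    Polynomial.aeval_X, Fintype.card_fin] at this
  exact this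

theorem det_of_act {t : Mat} {u φ : Fin 3 → F} (h : ∀ x, t *ᵥ x = x + (φ ⬝ᵥ x) • u) :
    t.det = 1 + φ ⬝ᵥ u := by
  have : t = 1 + Matrix.replicateCol Unit u * Matrix.replicateRow Unit φ := by
    refine Matrix.ext_iff_mulVec.2 fun x => ?_
    rw [h, Matrix.add_mulVec, one_mulVec, ← Matrix.vecMulVec_eq, Matrix.vecMulVec_mulVec, op_smul_eq_smul]
  rw [this, Matrix.det_one_add_replicateCol_mul_replicateRow]

theorem hasTrv_of_vecMulVec (hG : G ≤ Cfsg.Geo.specialLinear (Fin 3) F) {g : GL3} (hg : g ∈ G) (h1 : g ≠ 1)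
    {u φ : Fin 3 → F} (e : (g : Mat) - 1 = vecMulVec u φ) : HasTrv G := by
  have hgx : ∀ x, (g : Mat) *ᵥ x = x + (φ ⬝ᵥ x) • u := fun x => by
    have := congrArg (· *ᵥ x) e
    simp only [Matrix.sub_mulVec, one_mulVec, Matrix.vecMulVec_mulVec, op_smul_eq_smul] at this
    rw [← this]; abel
  have hd := det_of_act hgx
  rw [det_eq_one hG hg] at hd
  refine ⟨u, φ, fun h => h1 ?_, fun h => h1 ?_, left_eq_add.1 hd, g, hg, hgx⟩ <;>
    refine Units.ext ?_ <;> rw [Units.val_one, ← sub_eq_zero, e, h] <;> simp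

theorem hasTrv_of_sq_zero (hG : G ≤ Cfsg.Geo.specialLinear (Fin 3) F) {g : GL3} (hg : g ∈ G) (h1 : g ≠ 1)
    (h : ((g : Mat) - 1) * ((g : Mat) - 1) = 0) : HasTrv G := by
  obtain ⟨u, φ, e⟩ := Cfsg.Agent.Forms.Max.SL3.SympType.exists_vecMulVec
    (Cfsg.Agent.Forms.Max.SL3.SympType.adjugate_of_sq_zero h)
  exact hasTrv_of_vecMulVec hG hg h1 e

/-- a nilpotent matrix killing `u` and killed by `φ` with `φ u ≠ 0` has square zero -/
theorem sq_zero_of_fix {N : Mat} (h3 : N ^ 3 = 0) {u φ : Fin 3 → F} (hu : N *ᵥ u = 0) (hφ : φ ᵥ* N = 0)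
    (h1 : φ ⬝ᵥ u ≠ 0) : N * N = 0 := by
  by_contra hne
  obtain ⟨x, hx⟩ : ∃ x, N *ᵥ (N *ᵥ x) ≠ 0 := by
    by_contra hc
    push Not at hc
    exact hne (Matrix.ext_iff_mulVec.2 fun x => by rw [← Matrix.mulVec_mulVec, hc, Matrix.zero_mulVec])
  have hz : N *ᵥ (N *ᵥ (N *ᵥ x)) = 0 := by
    rw [Matrix.mulVec_mulVec, Matrix.mulVec_mulVec, ← pow_three', h3, Matrix.zero_mulVec]
  have hli : LinearIndependent F ![x, N *ᵥ x, N *ᵥ (N *ᵥ x)] := by
    refine Fintype.linearIndependent_iff.2 fun c hc => ?_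
    simp only [Fin.sum_univ_three, Matrix.cons_val_zero, Matrix.cons_val_one, Matrix.cons_val_two,
      Matrix.tail_cons, Matrix.head_cons] at hc
    have h2 := congrArg (fun y => N *ᵥ (N *ᵥ y)) hc
    simp only [Matrix.mulVec_add, Matrix.mulVec_smul, hz, Matrix.mulVec_zero, smul_zero, add_zero] at h2
    have c0 := (smul_eq_zero.1 h2).resolve_right hx
    rw [c0, zero_smul, zero_add] at hc
    have h2' := congrArg (fun y => N *ᵥ y) hc
    simp only [Matrix.mulVec_add, Matrix.mulVec_smul, hz, Matrix.mulVec_zero, smul_zero, add_zero] at h2'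
    have c1 := (smul_eq_zero.1 h2').resolve_right hx
    rw [c1, zero_smul, zero_add] at hc
    have c2 := (smul_eq_zero.1 hc).resolve_right hx
    intro i
    fin_cases i
    exacts [c0, c1, c2]
  have hsp := hli.span_eq_top_of_card_eq_finrank (by simp)
  obtain ⟨c, hc⟩ := (Submodule.mem_span_range_iff_exists_fun F).1 (hsp ▸ Submodule.mem_top : u ∈ _)
  simp only [Fin.sum_univ_three, Matrix.cons_val_zero, Matrix.cons_val_one, Matrix.cons_val_two,
    Matrix.tail_cons, Matrix.head_cons] at hc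
  rw [← hc] at hu
  simp only [Matrix.mulVec_add, Matrix.mulVec_smul, hz, smul_zero, add_zero] at hu
  have h2 := congrArg (N *ᵥ ·) hu
  simp only [Matrix.mulVec_add, Matrix.mulVec_smul, hz, smul_zero, add_zero, Matrix.mulVec_zero] at h2
  have c0 := (smul_eq_zero.1 h2).resolve_right hx
  rw [c0, zero_smul, zero_add] at hu
  have c1 := (smul_eq_zero.1 hu).resolve_right hx
  refine h1 ?_
  rw [← hc, c0, c1, zero_smul, zero_smul, zero_add, zero_add, dotProduct_smul, dotProduct_mulVec, hφ,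
    zero_dotProduct, smul_zero]

/-- a non-trivial `p`-element with fixed vector and fixed covector not annihilating each other -/
theorem hasTrv_of_fix (hG : G ≤ Cfsg.Geo.specialLinear (Fin 3) F) (p : ℕ) [Fact p.Prime] [CharP F p]
    {g : GL3} (hg : g ∈ G) (h1 : g ≠ 1) {k : ℕ} (hk : g ^ p ^ k = 1) {u φ : Fin 3 → F}
    (hu : ∃ c : F, (g : Mat) *ᵥ u = c • u) (hφ : ∃ c : F, φ ᵥ* (g : Mat) = c • φ) (hφu : φ ⬝ᵥ u ≠ 0) :
    HasTrv G := by
  have h3 := sub_one_cube p hk
  have hu0 : u ≠ 0 := fun h => hφu (by rw [h, dotProduct_zero])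
  have hφ0 : φ ≠ 0 := fun h => hφu (by rw [h, zero_dotProduct])
  have hNu : ((g : Mat) - 1) *ᵥ u = 0 := by
    obtain ⟨c, hc⟩ := hu
    have e : ((g : Mat) - 1) *ᵥ u = (c - 1) • u := by rw [Matrix.sub_mulVec, one_mulVec, hc, sub_smul, one_smul]
    have := congrArg (· *ᵥ u) h3
    simp only [pow_three, ← Matrix.mulVec_mulVec, e, Matrix.mulVec_smul, Matrix.zero_mulVec, smul_smul,
      smul_eq_zero, hu0, or_false, mul_eq_zero, or_self] at this
    rw [e, this, zero_smul]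
  have hφN : φ ᵥ* ((g : Mat) - 1) = 0 := by
    obtain ⟨c, hc⟩ := hφ
    have e : φ ᵥ* ((g : Mat) - 1) = (c - 1) • φ := by rw [Matrix.vecMul_sub, Matrix.vecMul_one, hc, sub_smul, one_smul]
    have := congrArg (φ ᵥ* ·) h3
    simp only [pow_three, ← Matrix.vecMul_vecMul, e, Matrix.smul_vecMul, Matrix.vecMul_zero, smul_smul,
      smul_eq_zero, hφ0, or_false, mul_eq_zero, or_self] at this
    rw [e, this, zero_smul]
  exact hasTrv_of_sq_zero hG hg h1 (sq_zero_of_fix h3 hNu hφN hφu)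

end Cfsg.Agent.PSLThree
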