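import Mathlib
import Cfsg.Agent.Lib.PSLThree.Basic.Unip

/-!
# Involutions are homologies; their centralisers fix centre and axis
-/

set_option autoImplicit false

namespace Cfsg.Agent.PSLThree

open Matrix

variable {F : Type*} [Field F] {G : Subgroup (GL (Fin 3) F)}

local notation "GL3" => GL (Fin 3) F
local notation "Mat" => Matrix (Fin 3) (Fin 3) F

theorem exists_vecMulVec_of_range_le_one (A : Mat) (h : Module.finrank F (LinearMap.range A.mulVecLin) ≤ 1) :
    ∃ u φ : Fin 3 → F, A = vecMulVec u φ := by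
  obtain ⟨v, hv⟩ := finrank_le_one_iff.1 h
  have key : ∀ j, ∃ c : F, c • (v : Fin 3 → F) = A *ᵥ Pi.single j 1 := fun j => by
    obtain ⟨c, hc⟩ := hv ⟨A *ᵥ Pi.single j 1, LinearMap.mem_range.2 ⟨_, rfl⟩⟩
    exact ⟨c, congrArg Subtype.val hc⟩
  choose c hc using key
  refine ⟨v, c, ?_⟩
  ext i j
  have := congrFun (hc j) i
  simp only [Pi.smul_apply, smul_eq_mul, Matrix.mulVec_single_one, Matrix.col_apply] at this
  rw [vecMulVec_apply, ← this, mul_comm]

/-- an involution of determinant one in odd characteristic is minus a reflection -/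
theorem exists_homology (h2 : (2 : F) ≠ 0) (hG : G ≤ Cfsg.Geo.specialLinear (Fin 3) F) {g : GL3}
    (hg : g ∈ G) (hsq : g * g = 1) (h1 : g ≠ 1) :
    ∃ u φ : Fin 3 → F, φ ⬝ᵥ u = 1 ∧ (g : Mat) = (2 : F) • vecMulVec u φ - 1 := by
  have hm : (g : Mat) * g = 1 := by rw [← Units.val_mul, hsq, Units.val_one]
  set A := (g : Mat) - 1 with hA
  set B := (g : Mat) + 1 with hB
  have hBA : B * A = 0 := by rw [hA, hB, add_mul, mul_sub, mul_sub, hm]; simp
  have hle : LinearMap.range A.mulVecLin ≤ LinearMap.ker B.mulVecLin := by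
    rintro _ ⟨x, rfl⟩
    simp [Matrix.mulVec_mulVec, hBA]
  have k1 := Submodule.finrank_mono hle
  have k2 := LinearMap.finrank_range_add_finrank_ker B.mulVecLin
  rw [Module.finrank_fintype_fun_eq_card, Fintype.card_fin] at k2
  have hd := det_eq_one hG hg
  rcases le_or_gt (Module.finrank F (LinearMap.range A.mulVecLin)) 1 with hA1 | hA1
  · exfalso
    obtain ⟨u, φ, e⟩ := exists_vecMulVec_of_range_le_one A hA1
    have hu : φ ⬝ᵥ u = 0 := by
      have := det_of_act (t := (g : Mat)) (u := u) (φ := φ) fun x => by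
        rw [show (g : Mat) = 1 + A by rw [hA]; abel, e, Matrix.add_mulVec, one_mulVec,
          Matrix.vecMulVec_mulVec, op_smul_eq_smul]
      rw [hd] at this
      exact left_eq_add.1 this
    have hAA : A * A = 0 := by rw [e, Matrix.vecMulVec_mul_vecMulVec, hu, zero_smul, Matrix.vecMulVec_zero]
    have : (2 : F) • A = 0 := by
      have h' : ((g : Mat) - 1) * ((g : Mat) - 1) = 0 := hAA
      rw [sub_mul, mul_sub, mul_sub, hm, one_mul, mul_one, one_mul] at h'
      rw [two_smul, hA, ← neg_eq_zero, ← h']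
      abel
    exact h1 (Units.ext (by rw [Units.val_one, ← sub_eq_zero]; exact (smul_eq_zero.1 this).resolve_left h2))
  · obtain ⟨u, φ, e⟩ := exists_vecMulVec_of_range_le_one B (by omega)
    have hg' : (g : Mat) = vecMulVec u φ - 1 := by rw [← e, hB]; abel
    have hu : φ ⬝ᵥ u = 2 := by
      have := det_of_act (t := -(g : Mat)) (u := -u) (φ := φ) fun x => by
        rw [hg', neg_sub, Matrix.sub_mulVec, one_mulVec, Matrix.vecMulVec_mulVec, op_smul_eq_smul, smul_neg,
          sub_eq_add_neg]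
      rw [Matrix.det_neg, hd, dotProduct_neg, Fintype.card_fin] at this
      linear_combination this
    refine ⟨(2 : F)⁻¹ • u, φ, by rw [dotProduct_smul, hu, smul_eq_mul, inv_mul_cancel₀ h2], ?_⟩
    rw [Matrix.smul_vecMulVec, smul_smul, mul_inv_cancel₀ h2, one_smul, hg']

/-- elements commuting with a homology fix its centre and its axis -/
theorem commute_homology (h2 : (2 : F) ≠ 0) {g k : GL3} {u φ : Fin 3 → F} (hu : φ ⬝ᵥ u = 1)
    (e : (g : Mat) = (2 : F) • vecMulVec u φ - 1) (hc : Commute k g) :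
    ∃ c : F, c ≠ 0 ∧ (k : Mat) *ᵥ u = c • u ∧ φ ᵥ* (k : Mat) = c • φ := by
  have hm : (k : Mat) * vecMulVec u φ = vecMulVec u φ * k := by
    have h : (k : Mat) * g = g * k := by rw [← Units.val_mul, hc.eq, Units.val_mul]
    rw [e, Matrix.mul_sub, Matrix.sub_mul, Matrix.mul_smul, Matrix.smul_mul, mul_one, one_mul,
      sub_left_inj] at h
    exact smul_right_injective _ h2 h
  rw [Matrix.mul_vecMulVec, Matrix.vecMulVec_mul] at hm
  have h0 := congrArg (· *ᵥ u) hm
  have h0' := congrArg (φ ᵥ* ·) hm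
  simp only [Matrix.vecMulVec_mulVec, op_smul_eq_smul, hu, one_smul] at h0
  simp only [Matrix.vecMul_vecMulVec, hu, one_smul] at h0'
  refine ⟨(φ ᵥ* (k : Mat)) ⬝ᵥ u, fun hz => ?_, h0, ?_⟩
  · rw [hz, zero_smul] at h0
    have hu0 : u = 0 := by
      have := congrArg (((k⁻¹ : GL3) : Mat) *ᵥ ·) h0
      simpa [Matrix.mulVec_mulVec, ← Units.val_mul] using this
    rw [hu0, dotProduct_zero] at hu
    exact zero_ne_one hu
  · rw [← dotProduct_mulVec]
    exact h0'.symm

end Cfsg.Agent.PSLThree
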