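import Mathlib
import Cfsg.Agent.Lib.PSLThree.Basic.Homology
import Cfsg.Agent.Lib.PSLThree.Basic.Frame
import Cfsg.Prelude.Def_CaseTheorems

/-!
# Involutions of `Bar G`: their lifts, their centralisers, and the two-rank
-/

set_option autoImplicit false

namespace Cfsg.Agent.PSLThree

open Matrix

variable {F : Type*} [Field F] {G : Subgroup (GL (Fin 3) F)}

local notation "GL3" => GL (Fin 3) F
local notation "Mat" => Matrix (Fin 3) (Fin 3) F
local notation "Sc" => Cfsg.Geo.scalars (Fin 3) F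

theorem exists_inv_lift (hG : G ≤ Cfsg.Geo.specialLinear (Fin 3) F) {x : Bar G} (hx : x * x = 1) :
    ∃ (g : GL3) (hg : g ∈ G), g * g = 1 ∧ ((⟨g, hg⟩ : G) : Bar G) = x := by
  obtain ⟨g, hg, hg2, e⟩ := exists_lift hG (n := 2) (by norm_num) (x := x) (by rw [pow_two, hx])
  exact ⟨g, hg, by rw [← pow_two, hg2], e⟩

/-- what commutes with an involution modulo scalars commutes with its lift -/
theorem commute_inv_lift (hG : G ≤ Cfsg.Geo.specialLinear (Fin 3) F) {g k : GL3} (hg : g ∈ G) (hk : k ∈ G)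
    (hsq : g * g = 1) (hc : Commute ((⟨k, hk⟩ : G) : Bar G) ((⟨g, hg⟩ : G) : Bar G)) : Commute k g := by
  have h := conj_lift hG (n := 2) (by norm_num) hg hg hk (by rw [pow_two, hsq]) (by rw [pow_two, hsq]) ?_
  · exact mul_inv_eq_iff_eq_mul.1 h
  · have hkg : ((⟨k * g * k⁻¹, mul_mem (mul_mem hk hg) (inv_mem hk)⟩ : G) : Bar G) = ((⟨g, hg⟩ : G) : Bar G) := by
      rw [show (⟨k * g * k⁻¹, mul_mem (mul_mem hk hg) (inv_mem hk)⟩ : G) = ⟨k, hk⟩ * ⟨g, hg⟩ * ⟨k, hk⟩⁻¹ from
        rfl, QuotientGroup.mk_mul, QuotientGroup.mk_mul, QuotientGroup.mk_inv, hc.eq, mul_inv_cancel_right]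
    exact mk_eq.1 hkg

/-- the block frame of a homology -/
theorem exists_block_frame (h2 : (2 : F) ≠ 0) (hG : G ≤ Cfsg.Geo.specialLinear (Fin 3) F) {g : GL3}
    (hg : g ∈ G) (hsq : g * g = 1) (h1 : g ≠ 1) :
    ∃ T : GL (Fin 3) F, ((T * g * T⁻¹ : GL3) : Mat) = diagonal ![1, -1, -1] ∧
      ∀ k : GL3, Commute k g → ((T * k * T⁻¹ : GL3) : Mat) 0 1 = 0 ∧ ((T * k * T⁻¹ : GL3) : Mat) 0 2 = 0 ∧
        ((T * k * T⁻¹ : GL3) : Mat) 1 0 = 0 ∧ ((T * k * T⁻¹ : GL3) : Mat) 2 0 = 0 := by
  obtain ⟨u, φ, hu, e⟩ := exists_homology h2 hG hg hsq h1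
  have hφ : φ ≠ 0 := fun h => by rw [h, zero_dotProduct] at hu; exact zero_ne_one hu
  let L : (Fin 3 → F) →ₗ[F] F :=
    { toFun := fun x => φ ⬝ᵥ x, map_add' := fun x y => dotProduct_add φ x y,
      map_smul' := fun c x => dotProduct_smul c φ x }
  have hk : Module.finrank F L.ker = 2 := by
    have h := LinearMap.finrank_range_add_finrank_ker L
    rw [LinearMap.range_eq_top.2 fun c => ⟨c • u, show φ ⬝ᵥ (c • u) = c by rw [dotProduct_smul, hu, smul_eq_mul, mul_one]⟩,
      finrank_top, Module.finrank_self, Module.finrank_fintype_fun_eq_card, Fintype.card_fin] at h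
    omega
  let b := Module.finBasisOfFinrankEq F L.ker hk
  let v : Fin 3 → (Fin 3 → F) := ![u, (b 0 : Fin 3 → F), (b 1 : Fin 3 → F)]
  have hb : ∀ i, φ ⬝ᵥ (b i : Fin 3 → F) = 0 := fun i => (b i).2
  have hli : LinearIndependent F v := by
    refine Fintype.linearIndependent_iff.2 fun c hc => ?_
    simp only [Fin.sum_univ_three, v, Matrix.cons_val_zero, Matrix.cons_val_one, Matrix.cons_val_two,
      Matrix.tail_cons, Matrix.head_cons] at hc
    have h0 := congrArg (φ ⬝ᵥ ·) hc
    simp only [dotProduct_add, dotProduct_smul, hu, hb, smul_eq_mul, mul_one, mul_zero, add_zero, dotProduct_zero] at h0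
    rw [h0, zero_smul, zero_add] at hc
    have h12 := Fintype.linearIndependent_iff.1 b.linearIndependent ![c 1, c 2]
      (Subtype.ext (by rw [Fin.sum_univ_two]; simpa using hc))
    intro i
    fin_cases i
    exacts [h0, h12 0, h12 1]
  let Q : Mat := Matrix.of fun i k => v k i
  obtain ⟨S, hS⟩ := (Matrix.linearIndependent_cols_iff_isUnit (A := Q)).1 hli
  have hgS : (g : Mat) * (S : Mat) = (S : Mat) * diagonal ![1, -1, -1] := by
    ext i k
    rw [hS, Matrix.mul_diagonal]
    show ((g : Mat) *ᵥ v k) i = v k i * ![1, -1, -1] k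
    rw [e, Matrix.sub_mulVec, one_mulVec, Matrix.smul_mulVec, Matrix.vecMulVec_mulVec, op_smul_eq_smul]
    fin_cases k <;> simp [v, hu, hb]
    ring
  have hT : ((S⁻¹ * g * S⁻¹⁻¹ : GL3) : Mat) = diagonal ![1, -1, -1] := by
    rw [inv_inv, Units.val_mul, Units.val_mul, Matrix.mul_assoc, hgS, ← Matrix.mul_assoc, Units.inv_mul, Matrix.one_mul]
  refine ⟨S⁻¹, hT, fun k hc => ?_⟩
  have hc' : ((S⁻¹ * k * S⁻¹⁻¹ : GL3) : Mat) * diagonal ![1, -1, -1] =
      diagonal ![1, -1, -1] * ((S⁻¹ * k * S⁻¹⁻¹ : GL3) : Mat) := by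
    rw [← hT, ← Units.val_mul, ← Units.val_mul]
    congr 1
    have h := hc.map (MulAut.conj S⁻¹).toMonoidHom
    simpa using h.eq
  have key : ∀ i j, ![(1 : F), -1, -1] i ≠ ![(1 : F), -1, -1] j →
      ((S⁻¹ * k * S⁻¹⁻¹ : GL3) : Mat) i j = 0 := fun i j hij => by
    have h := congrFun (congrFun hc' i) j
    rw [Matrix.mul_diagonal, Matrix.diagonal_mul] at h
    exact (mul_eq_zero.1 (show ((S⁻¹ * k * S⁻¹⁻¹ : GL3) : Mat) i j * (![(1 : F), -1, -1] j - ![(1 : F), -1, -1] i) = 0 by
      linear_combination h)).resolve_right (sub_ne_zero.2 (Ne.symm hij))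
  have hne : (1 : F) ≠ -1 := fun h => h2 (by linear_combination h)
  exact ⟨key 0 1 (by simpa using hne), key 0 2 (by simpa using hne), key 1 0 (by simpa using hne.symm),
    key 2 0 (by simpa using hne.symm)⟩

/-- the two-rank of `Bar G` is at most two -/
theorem pRankLE_two (h2 : (2 : F) ≠ 0) (hG : G ≤ Cfsg.Geo.specialLinear (Fin 3) F) :
    Cfsg.PRankLE 2 2 (Bar G) := by
  classical
  intro A hA hexp
  have hsq : ∀ a : A, (a : Bar G) * a = 1 := fun a => by rw [← pow_two]; exact hexp _ a.2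
  choose g hg hgg hgx using fun a : A => exists_inv_lift hG (hsq a)
  have hcomm : ∀ a b : A, Commute (g a) (g b) := fun a b =>
    commute_inv_lift hG (hg b) (hg a) (hgg b) (by
      rw [hgx, hgx]
      exact congrArg Subtype.val (hA.is_comm.comm a b))
  obtain ⟨T, hT⟩ := exists_frame (Set.range g)
    (by rintro _ ⟨a, rfl⟩ _ ⟨b, rfl⟩; exact hcomm a b)
    (by rintro _ ⟨a, rfl⟩; exact ⟨2, by exact_mod_cast h2, by rw [pow_two, hgg]⟩)
  choose μ hμ using fun a : A => hT (g a) ⟨a, rfl⟩
  have hμ1 : ∀ a i, μ a i = 1 ∨ μ a i = -1 := fun a i => by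
    have h : bar (g a) * bar (g a) = 1 := by rw [← bar_mul, hgg, bar_one]
    rw [hμ a] at h
    have h' : diagonal (μ a) * diagonal (μ a) = 1 := by
      have := congrArg (fun M => ((T⁻¹ : GL (Fin 3) (AlgebraicClosure F)) : Matrix (Fin 3) (Fin 3) _) * M *
        (T : Matrix (Fin 3) (Fin 3) _)) h
      simpa [Matrix.mul_assoc] using this
    rw [Matrix.diagonal_mul_diagonal, ← Matrix.diagonal_one] at h'
    exact mul_self_eq_one_iff.1 (congrFun (Matrix.diagonal_injective h') i)
  have hprod : ∀ a, μ a 0 * μ a 1 * μ a 2 = 1 := fun a => by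
    have h := bar_det (g a)
    rw [det_eq_one hG (hg a), map_one, hμ a, Matrix.det_mul, Matrix.det_mul, Matrix.det_diagonal, mul_right_comm,
      ← Matrix.det_mul, Units.mul_inv, Matrix.det_one, one_mul, Fin.prod_univ_three] at h
    exact h
  let f : A → Fin 2 × Fin 2 := fun a => (if μ a 0 = 1 then 0 else 1, if μ a 1 = 1 then 0 else 1)
  have hf : Function.Injective f := by
    intro a b hab
    have hi : ∀ i : Fin 3, i ≠ 2 → μ a i = μ b i := fun i hi => by
      have h0 : (if μ a i = 1 then (0 : Fin 2) else 1) = (if μ b i = 1 then 0 else 1) := by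
        fin_cases i
        · exact congrArg Prod.fst hab
        · exact congrArg Prod.snd hab
        · exact absurd rfl hi
      have hne : ¬ ((-1 : AlgebraicClosure F) = 1) := fun h => h2
        ((FaithfulSMul.algebraMap_injective F (AlgebraicClosure F)) (by rw [map_ofNat, map_zero]; linear_combination -h))
      rcases hμ1 a i with ha | ha <;> rcases hμ1 b i with hb | hb <;> rw [ha, hb] at h0 ⊢
      · simp [hne] at h0
      · simp [hne] at h0
    have e : μ a = μ b := by
      funext i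
      by_cases h : i = 2
      · subst h
        have h0 := hi 0 (by decide)
        have h1 := hi 1 (by decide)
        have k := (hprod a).trans (hprod b).symm
        rw [h0, h1] at k
        refine mul_left_cancel₀ (fun hz => ?_) k
        have := hprod b
        rw [hz, zero_mul] at this
        exact zero_ne_one this
      · exact hi i h
    have hab' : g a = g b := bar_injective (by rw [hμ a, hμ b, e])
    refine Subtype.ext ?_
    rw [← hgx a, ← hgx b]
    exact congrArg _ (Subtype.ext hab')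
  simpa using Nat.card_le_card_of_injective f hf

end Cfsg.Agent.PSLThree
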