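import Mathlib
import Cfsg.Agent.Lib.PSLThree.Basic.Inv
import Cfsg.Agent.Lib.Classical.LinearExtend
import Cfsg.Agent.Lib.Forms.Max.SL3.Singer.Thin

/-!
# A perfect group of determinant one that is simple modulo scalars is irreducible
-/

set_option autoImplicit false
set_option linter.unusedSectionVars false

namespace Cfsg.Agent.PSLThree

open Matrix

variable {F : Type*} [Field F] {P : Subgroup (GL (Fin 3) F)}

local notation "GL3" => GL (Fin 3) F
local notation "Mat" => Matrix (Fin 3) (Fin 3) F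

/-- inverse transpose -/
noncomputable def invT : GL (Fin 3) F →* GL (Fin 3) F where
  toFun g :=
    { val := ((g⁻¹ : GL (Fin 3) F) : Matrix (Fin 3) (Fin 3) F)ᵀ
      inv := (g : Matrix (Fin 3) (Fin 3) F)ᵀ
      val_inv := by rw [← Matrix.transpose_mul, Units.mul_inv, Matrix.transpose_one]
      inv_val := by rw [← Matrix.transpose_mul, Units.inv_mul, Matrix.transpose_one] }
  map_one' := Units.ext (by simp)
  map_mul' g h := Units.ext (by
    show ((((g * h)⁻¹ : GL (Fin 3) F)) : Matrix (Fin 3) (Fin 3) F)ᵀ = _ * _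
    rw [_root_.mul_inv_rev, Units.val_mul, Matrix.transpose_mul])

theorem invT_injective : Function.Injective (invT : GL3 → GL3) := fun g h e => by
  have := congrArg Units.val e
  change ((g⁻¹ : GL3) : Mat)ᵀ = ((h⁻¹ : GL3) : Mat)ᵀ at this
  exact inv_injective (Units.ext (Matrix.transpose_injective this))

theorem exists_involution [Finite F]
    (hev : Even (Nat.card (Bar P))) (hle : P ≤ Cfsg.Geo.specialLinear (Fin 3) F) :
    ∃ (J : GL3) (hJ : J ∈ P), J * J = 1 ∧ ((⟨J, hJ⟩ : P) : Bar P) ≠ 1 := by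
  have : Fact (Nat.Prime 2) := ⟨Nat.prime_two⟩
  obtain ⟨x, hx⟩ := exists_prime_orderOf_dvd_card' 2 (even_iff_two_dvd.1 hev)
  have hx2 : x * x = 1 := by rw [← pow_two, ← hx, pow_orderOf_eq_one]
  obtain ⟨J, hJ, hJJ, e⟩ := exists_inv_lift hle hx2
  exact ⟨J, hJ, hJJ, by rw [e]; intro h; rw [h, orderOf_one] at hx; norm_num at hx⟩

/-- no faithful representation of determinant one with a fixed line -/
theorem no_fixed_line [Finite F] (hle : P ≤ Cfsg.Geo.specialLinear (Fin 3) F) (hperf : ⁅P, P⁆ = P)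
    (hs : IsSimpleGroup (Bar P)) (hna : ¬ IsMulCommutative (Bar P)) (hev : Even (Nat.card (Bar P)))
    (h2 : (2 : F) ≠ 0) (ρ : ↥P →* GL3) (hρ : Function.Injective ρ) (hdet : ∀ g, (ρ g : Mat).det = 1)
    (hcol : ∀ g, (ρ g : Mat) 1 0 = 0 ∧ (ρ g : Mat) 2 0 = 0) : False := by
  classical
  have hm : ∀ (g k : ↥P) (i j), (ρ (g * k) : Mat) i j =
      (ρ g : Mat) i 0 * (ρ k : Mat) 0 j + (ρ g : Mat) i 1 * (ρ k : Mat) 1 j + (ρ g : Mat) i 2 * (ρ k : Mat) 2 j := by
    intro g k i j
    rw [map_mul, Units.val_mul, Matrix.mul_apply, Fin.sum_univ_three]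
  have hne : ∀ g, (ρ g : Mat) 0 0 ≠ 0 := fun g h => by
    have := hdet g
    rw [Matrix.det_fin_three, h, (hcol g).1, (hcol g).2] at this
    simp at this
  let χ : ↥P →* Fˣ :=
    { toFun := fun g => Units.mk0 _ (hne g)
      map_one' := Units.ext (by simp)
      map_mul' := fun g k => Units.ext (by
        show (ρ (g * k) : Mat) 0 0 = (ρ g : Mat) 0 0 * (ρ k : Mat) 0 0
        rw [hm, (hcol k).1, (hcol k).2]; ring) }
  have hcommP : commutator ↥P = ⊤ := by
    refine Subgroup.map_injective P.subtype_injective ?_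
    rw [commutator_def, Subgroup.map_commutator, ← MonoidHom.range_eq_map, Subgroup.range_subtype, hperf]
  have hχ : ∀ g, (ρ g : Mat) 0 0 = 1 := fun g => by
    have h : g ∈ χ.ker := Abelianization.commutator_subset_ker χ (hcommP ▸ Subgroup.mem_top g)
    exact congrArg Units.val (MonoidHom.mem_ker.1 h)
  let ψ : ↥P →* Matrix (Fin 2) (Fin 2) F :=
    { toFun := fun g => !![(ρ g : Mat) 1 1, (ρ g : Mat) 1 2; (ρ g : Mat) 2 1, (ρ g : Mat) 2 2]
      map_one' := by ext i j; fin_cases i <;> fin_cases j <;> simp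
      map_mul' := fun g k => by
        ext i j
        fin_cases i <;> fin_cases j <;>
          simp [Matrix.mul_apply, Fin.sum_univ_three, Fin.sum_univ_two, (hcol g).1, (hcol g).2] }
  have hψdet : ∀ g, (ψ g).det = 1 := fun g => by
    have := hdet g
    rw [Matrix.det_fin_three, (hcol g).1, (hcol g).2, hχ] at this
    show Matrix.det !![_, _; _, _] = 1
    rw [Matrix.det_fin_two_of]
    linear_combination this
  have hU : ∀ g, ψ g = 1 → ∀ i j, i ≠ 0 → (ρ g : Mat) i j = (1 : Mat) i j := fun g hg i j hi => by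
    have e : ∀ a b, ψ g a b = (1 : Matrix (Fin 2) (Fin 2) F) a b := fun a b => by rw [hg]
    have e00 : (ρ g : Mat) 1 1 = 1 := by simpa [ψ] using e 0 0
    have e01 : (ρ g : Mat) 1 2 = 0 := by simpa [ψ] using e 0 1
    have e10 : (ρ g : Mat) 2 1 = 0 := by simpa [ψ] using e 1 0
    have e11 : (ρ g : Mat) 2 2 = 1 := by simpa [ψ] using e 1 1
    fin_cases i <;> fin_cases j <;> simp_all
  have hUc : ∀ g k, ψ g = 1 → ψ k = 1 → g * k = k * g := fun g k hg hk => hρ (Units.ext (by
    ext i j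
    rw [hm, hm]
    fin_cases i <;> fin_cases j <;>
      simp [hχ, hU g hg 1 _ (by decide), hU g hg 2 _ (by decide), hU k hk 1 _ (by decide),
        hU k hk 2 _ (by decide)] <;> ring))
  -- the kernel is trivial
  let π := QuotientGroup.mk' ((Cfsg.Geo.scalars (Fin 3) F).subgroupOf P)
  have hker : ∀ g, ψ g = 1 → g = 1 := by
    intro g hg
    have hn : (ψ.ker.map π).Normal := (inferInstance : ψ.ker.Normal).map π (QuotientGroup.mk'_surjective _)
    rcases hn.eq_bot_or_eq_top with h | h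
    · have hgS : (g : GL3) ∈ Cfsg.Geo.scalars (Fin 3) F := by
        have : π g = 1 := by rw [← Subgroup.mem_bot, ← h]; exact ⟨g, hg, rfl⟩
        exact (QuotientGroup.eq_one_iff g).1 this
      have hg3 : g ^ 3 = 1 := Subtype.ext (scalar_cube hle g.2 hgS)
      set N := (ρ g : Mat) - 1 with hN
      have hNN : N * N = 0 := by
        ext i j
        rw [Matrix.mul_apply, Fin.sum_univ_three]
        fin_cases i <;> simp [hN, hχ, hU g hg 1 _ (by decide), hU g hg 2 _ (by decide)]
      have h3N : (3 : F) • N = 0 := by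
        have h := congrArg (fun x => (ρ x : Mat)) hg3
        simp only [map_pow, Units.val_pow_eq_pow_val, map_one, Units.val_one] at h
        rw [show (ρ g : Mat) = 1 + N by rw [hN]; abel, pow_three] at h
        simp only [mul_add, add_mul, one_mul, mul_one, hNN, add_zero] at h
        rw [show (3 : F) = 1 + 1 + 1 by norm_num, add_smul, add_smul, one_smul]
        refine Eq.trans ?_ (sub_eq_zero.2 h)
        abel
      by_cases h3 : (3 : F) = 0
      · obtain ⟨c, hc⟩ := (Cfsg.Geo.mem_scalars_iff _).1 hgS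
        have hd := det_eq_one hle g.2
        rw [hc, Matrix.det_smul, Matrix.det_one, mul_one, Fintype.card_fin] at hd
        have hc1 : ((c : F) - 1) ^ 3 = 0 := by
          linear_combination hd + (-(c : F) ^ 2 + (c : F)) * h3
        refine Subtype.ext (Units.ext ?_)
        rw [hc, sub_eq_zero.1 (pow_eq_zero_iff (n := 3) (by norm_num) |>.1 hc1), one_smul]
        rfl
      · refine hρ (Units.ext ?_)
        rw [map_one, Units.val_one, ← sub_eq_zero, ← hN]
        exact (smul_eq_zero.1 h3N).resolve_left h3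
    · refine absurd ⟨⟨fun a b => ?_⟩⟩ hna
      obtain ⟨x, hx, rfl⟩ : a ∈ ψ.ker.map π := h ▸ Subgroup.mem_top a
      obtain ⟨y, hy, rfl⟩ : b ∈ ψ.ker.map π := h ▸ Subgroup.mem_top b
      rw [← map_mul, ← map_mul, hUc x y hx hy]
  obtain ⟨J, hJ, hJJ, hJ1⟩ := exists_involution hev hle
  set j : ↥P := ⟨J, hJ⟩
  have hjj : ψ j * ψ j = 1 := by rw [← map_mul, show j * j = 1 from Subtype.ext hJJ, map_one]
  have hjscal : ∃ c : F, ψ j = c • 1 := by
    have hd := hψdet j
    set M := ψ j
    have hCH : M * M - M.trace • M + (1 : Matrix (Fin 2) (Fin 2) F) = 0 := by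
      ext a b
      rw [Matrix.det_fin_two] at hd
      fin_cases a <;> fin_cases b <;> simp [Matrix.mul_apply, Fin.sum_univ_two, Matrix.trace_fin_two] <;>
        first | linear_combination hd | linear_combination -hd | ring
    rw [hjj] at hCH
    have ht : M.trace • M = (2 : F) • (1 : Matrix (Fin 2) (Fin 2) F) := by
      rw [two_smul]
      rw [← sub_eq_zero, ← neg_eq_zero, ← hCH]
      abel
    have ht0 : M.trace ≠ 0 := fun h => by
      rw [h, zero_smul] at ht
      exact h2 (by simpa using (congrFun (congrFun ht 0) 0).symm)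
    exact ⟨M.trace⁻¹ * 2, by rw [← smul_smul, ← ht, inv_smul_smul₀ ht0]⟩
  obtain ⟨c, hc⟩ := hjscal
  have hjc : ∀ g : ↥P, j * g = g * j := fun g => by
    rw [← mul_inv_eq_one]
    refine hker _ ?_
    have hcm : ψ (j * g) = ψ (g * j) := by
      rw [map_mul, map_mul, hc, Matrix.smul_mul, Matrix.mul_smul, one_mul, mul_one]
    rw [map_mul, hcm, ← map_mul, mul_inv_cancel, map_one]
  have hz : (j : Bar P) ∈ Subgroup.center (Bar P) := Subgroup.mem_center_iff.2 fun y => by
    obtain ⟨y, rfl⟩ := QuotientGroup.mk_surjective y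
    rw [← QuotientGroup.mk_mul, ← QuotientGroup.mk_mul, hjc]
  rcases (inferInstance : (Subgroup.center (Bar P)).Normal).eq_bot_or_eq_top with h | h
  · exact hJ1 (Subgroup.mem_bot.1 (h ▸ hz))
  · exact hna ⟨⟨fun a b => (Subgroup.mem_center_iff.1 (h ▸ Subgroup.mem_top b) a)⟩⟩

/-- irreducibility -/
theorem irred_of_simple [Finite F] (hle : P ≤ Cfsg.Geo.specialLinear (Fin 3) F) (hperf : ⁅P, P⁆ = P)
    (hs : IsSimpleGroup (Bar P)) (hna : ¬ IsMulCommutative (Bar P)) (hev : Even (Nat.card (Bar P)))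
    (h2 : (2 : F) ≠ 0) : Cfsg.Geo.ActsIrreducibly (Cfsg.Geo.matrixSet P) := by
  -- no common eigenvector of an embedding
  have key : ∀ (ρ : ↥P →* GL3), Function.Injective ρ → (∀ g, (ρ g : Mat).det = 1) →
      ∀ v : Fin 3 → F, v ≠ 0 → (∀ g, ∃ c : F, (ρ g : Mat) *ᵥ v = c • v) → False := by
    intro ρ hρ hd v hv hfix
    have he : (Pi.single 0 1 : Fin 3 → F) ≠ 0 := fun h => by simpa using congrFun h 0
    obtain ⟨e, he'⟩ := Cfsg.Agent.Classical.LinearExtend.exists_map_vec (F := F) (V := Fin 3 → F) (V' := Fin 3 → F) rfl he hv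
    have hu : IsUnit (LinearMap.toMatrix' (e : (Fin 3 → F) →ₗ[F] (Fin 3 → F))) :=
      ⟨⟨_, LinearMap.toMatrix' (e.symm : (Fin 3 → F) →ₗ[F] (Fin 3 → F)),
        by rw [← LinearMap.toMatrix'_comp, LinearEquiv.comp_coe, LinearEquiv.symm_trans_self]; exact LinearMap.toMatrix'_id,
        by rw [← LinearMap.toMatrix'_comp, LinearEquiv.comp_coe, LinearEquiv.self_trans_symm]; exact LinearMap.toMatrix'_id⟩, rfl⟩
    obtain ⟨T, hT⟩ := hu
    have hTv : (T : Mat) *ᵥ Pi.single 0 1 = v := by rw [hT, LinearMap.toMatrix'_mulVec]; exact he'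
    refine no_fixed_line hle hperf hs hna hev h2 ((MulAut.conj T⁻¹).toMonoidHom.comp ρ)
      ((MulAut.conj T⁻¹).injective.comp hρ) (fun g => ?_) (fun g => ?_)
    · show ((T⁻¹ * ρ g * T⁻¹⁻¹ : GL3) : Mat).det = 1
      rw [Units.val_mul, Units.val_mul, inv_inv, Matrix.coe_units_inv, Matrix.det_conj' T.isUnit, hd]
    · obtain ⟨c, hc⟩ := hfix g
      have hcol : ((T⁻¹ * ρ g * T⁻¹⁻¹ : GL3) : Mat) *ᵥ Pi.single 0 1 = c • Pi.single 0 1 := by
        rw [inv_inv, Units.val_mul, Units.val_mul, ← Matrix.mulVec_mulVec, hTv, ← Matrix.mulVec_mulVec, hc,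
          Matrix.mulVec_smul, ← hTv, Matrix.mulVec_mulVec, Units.inv_mul, Matrix.one_mulVec]
      rw [Matrix.mulVec_single_one] at hcol
      exact ⟨by simpa using congrFun hcol 1, by simpa using congrFun hcol 2⟩
  have := Fintype.ofFinite F
  intro W hW
  by_contra hc
  push Not at hc
  have hWm : ∀ g ∈ P, ∀ x ∈ W, (g : Mat) *ᵥ x ∈ W := fun g hg x hx =>
    hW _ ⟨g, hg, rfl⟩ ⟨x, hx, by rw [Matrix.toLin'_apply]⟩
  obtain ⟨a, ha, ha0⟩ := Submodule.exists_mem_ne_zero_of_ne_bot hc.1
  rcases Nat.lt_or_ge (Module.finrank F W) 2 with h1 | h2'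
  · refine key P.subtype P.subtype_injective (fun g => det_eq_one hle g.2) a ha0 fun g => ?_
    have heq : Submodule.span F {a} = W := Submodule.eq_of_le_of_finrank_le
      ((Submodule.span_singleton_le_iff_mem _ _).2 ha) (by rw [finrank_span_singleton ha0]; omega)
    obtain ⟨c, hc'⟩ := Submodule.mem_span_singleton.1 (heq.symm ▸ hWm g g.2 a ha)
    exact ⟨c, hc'.symm⟩
  · obtain ⟨f, hf, hfW⟩ := Submodule.exists_le_ker_of_lt_top W (lt_top_iff_ne_top.2 hc.2)
    let χ : Fin 3 → F := fun i => f (Pi.single i 1)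
    have hχf : ∀ y, χ ⬝ᵥ y = f y := fun y => by
      conv_rhs => rw [pi_eq_sum_univ' y, map_sum]
      simp [χ, dotProduct, map_smul, mul_comm]
    have hχ : χ ≠ 0 := fun e => hf (LinearMap.ext fun y => by rw [← hχf, e, zero_dotProduct]; rfl)
    have hχW : ∀ y ∈ W, χ ⬝ᵥ y = 0 := fun y hy => (hχf y).trans (hfW hy)
    obtain ⟨b, hb, hb0⟩ : ∃ b ∈ W, b ∉ Submodule.span F {a} := by
      by_contra hall
      push Not at hall
      have := (Submodule.finrank_mono (show W ≤ Submodule.span F {a} from hall)).trans (finrank_span_singleton ha0).le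
      omega
    have hb' : ∀ c : F, b ≠ c • a := fun c h => hb0 (Submodule.mem_span_singleton.2 ⟨c, h.symm⟩)
    refine key (invT.comp P.subtype) (invT_injective.comp P.subtype_injective) (fun g => ?_) χ hχ fun g => ?_
    · show (((g : GL3)⁻¹ : GL3) : Mat)ᵀ.det = 1
      rw [Matrix.det_transpose, det_eq_one hle (inv_mem g.2)]
    · show ∃ c : F, (((g : GL3)⁻¹ : GL3) : Mat)ᵀ *ᵥ χ = c • χ
      rw [Matrix.mulVec_transpose]
      exact Cfsg.Agent.Forms.Max.SL3.Singer.Thin.prop_of_two hχ ha0 hb' (hχW a ha) (hχW b hb)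
        (by rw [← dotProduct_mulVec]; exact hχW _ (hWm _ (inv_mem g.2) a ha))
        (by rw [← dotProduct_mulVec]; exact hχW _ (hWm _ (inv_mem g.2) b hb))

end Cfsg.Agent.PSLThree
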