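import Mathlib
import Cfsg.Agent.Lib.PSLThree.Basic.Reducible
import Cfsg.Agent.Lib.Hall.MinimalNormal
import Cfsg.Agent.Lib.Perm.CharSimple
import Cfsg.Agent.S0204
import Cfsg.Agent.S0205

/-!
# From a subgroup of `PSL₃(F)` without abelian normal subgroups to a pair `G`, `P`
-/

set_option autoImplicit false
set_option linter.unusedSectionVars false

namespace Cfsg.Agent.PSLThree

open Matrix
open scoped commutatorElement

variable {F : Type*} [Field F] [Finite F]

local notation "GL3" => GL (Fin 3) F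
local notation "PSL" => Matrix.ProjectiveSpecialLinearGroup (Fin 3) F
local notation "SL3" => Matrix.SpecialLinearGroup (Fin 3) F

/-- the preimage of `H` in `GL₃(F)` -/
noncomputable def preimage (H : Subgroup (Matrix.ProjectiveSpecialLinearGroup (Fin 3) F)) :
    Subgroup (GL (Fin 3) F) :=
  (H.comap (QuotientGroup.mk' (Subgroup.center (Matrix.SpecialLinearGroup (Fin 3) F)))).map
    Matrix.SpecialLinearGroup.toGL

theorem preimage_le (H : Subgroup PSL) : preimage H ≤ Cfsg.Geo.specialLinear (Fin 3) F := by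
  rintro _ ⟨s, -, rfl⟩
  exact MonoidHom.mem_ker.2 (Units.ext s.2)

theorem center_iff (s : SL3) :
    Matrix.SpecialLinearGroup.toGL s ∈ Cfsg.Geo.scalars (Fin 3) F ↔ s ∈ Subgroup.center SL3 := by
  rw [Cfsg.Geo.mem_scalars_iff, Matrix.SpecialLinearGroup.mem_center_iff]
  constructor
  · rintro ⟨c, hc⟩
    have hs : (s : Matrix (Fin 3) (Fin 3) F) = (c : F) • 1 := hc
    refine ⟨c, ?_, by rw [hs, Matrix.smul_one_eq_diagonal]; rfl⟩
    have := s.2
    rwa [hs, Matrix.det_smul, Matrix.det_one, mul_one] at this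
  · rintro ⟨r, hr, e⟩
    have hr0 : r ≠ 0 := fun h => by rw [h, zero_pow (by simp)] at hr; exact zero_ne_one hr
    refine ⟨Units.mk0 r hr0, ?_⟩
    show (s : Matrix (Fin 3) (Fin 3) F) = r • 1
    rw [← e, Matrix.smul_one_eq_diagonal]
    rfl

/-- `Bar` of the preimage is the group one started from -/
theorem preimage_equiv (H : Subgroup PSL) : Nonempty (Bar (preimage H) ≃* ↥H) := by
  let K := H.comap (QuotientGroup.mk' (Subgroup.center SL3))
  let e : ↥K ≃* ↥(preimage H) := K.equivMapOfInjective _ Matrix.SpecialLinearGroup.toGL_injective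
  let f : ↥(preimage H) →* ↥H :=
    ((QuotientGroup.mk' (Subgroup.center SL3)).subgroupComap H).comp e.symm.toMonoidHom
  have hf : Function.Surjective f := fun x =>
    let ⟨s, hs⟩ := QuotientGroup.mk'_surjective _ (x : PSL)
    ⟨e ⟨s, show QuotientGroup.mk' _ s ∈ H by rw [hs]; exact x.2⟩, Subtype.ext (by
      show QuotientGroup.mk' _ ((e.symm (e _) : ↥K) : SL3) = (x : PSL)
      rw [e.symm_apply_apply]; exact hs)⟩
  have hker : f.ker = (Cfsg.Geo.scalars (Fin 3) F).subgroupOf (preimage H) := by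
    ext g
    obtain ⟨k, rfl⟩ := e.surjective g
    rw [MonoidHom.mem_ker, Subgroup.mem_subgroupOf]
    show _ ↔ Matrix.SpecialLinearGroup.toGL (k : SL3) ∈ _
    rw [center_iff, ← QuotientGroup.eq_one_iff]
    constructor
    · intro h
      have := congrArg Subtype.val h
      change QuotientGroup.mk' _ ((e.symm (e k) : ↥K) : SL3) = (1 : PSL) at this
      rwa [e.symm_apply_apply] at this
    · intro h
      refine Subtype.ext ?_
      show QuotientGroup.mk' _ ((e.symm (e k) : ↥K) : SL3) = (1 : PSL)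
      rwa [e.symm_apply_apply]
  exact ⟨(QuotientGroup.quotientMulEquivOfEq hker.symm).trans (QuotientGroup.quotientKerEquivOfSurjective f hf)⟩

/-- in a group of two-rank at most two a minimal normal subgroup that is not abelian is simple -/
theorem simple_of_minimal {H : Type*} [Group H] [Finite H] (h2 : Cfsg.PRankLE 2 2 H) {N : Subgroup H} [N.Normal]
    (hN : N ≠ ⊥) (hmin : ∀ M : Subgroup H, M.Normal → M ≤ N → M = ⊥ ∨ M = N) (hna : ¬ IsMulCommutative N) :
    IsSimpleGroup N ∧ Even (Nat.card N) := by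
  obtain ⟨T, iT, m, hT, hm, ⟨e⟩⟩ := Cfsg.Agent.Perm.CharSimple.exists_simple_power N hN hmin
  have : Finite T := Finite.of_injective (fun t : T => e.symm (fun _ => t)) fun a b h =>
    congrFun (e.symm.injective h) ⟨0, hm⟩
  have hTna : ¬ IsMulCommutative T := fun h => hna ⟨⟨fun a b => e.injective (by
    rw [map_mul, map_mul]; exact funext fun i => h.is_comm.comm _ _)⟩⟩
  have hTc : ¬ IsCyclic T := fun h => hTna ⟨⟨fun a b => by
    exact mul_comm' a b⟩⟩
  obtain ⟨E, hE⟩ := Cfsg.Agent.S0204.result (G := T) hTc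
  have hev : Even (Nat.card T) := by
    have := E.card_subgroup_dvd_card
    rw [hE.card_four] at this
    exact even_iff_two_dvd.2 (dvd_trans (by norm_num) this)
  have hm1 : m = 1 := by
    by_contra hne
    classical
    let i0 : Fin m := ⟨0, hm⟩
    let i1 : Fin m := ⟨1, by omega⟩
    let Φ : ↥E × ↥E →* H :=
      N.subtype.comp (e.symm.toMonoidHom.comp
        ((MonoidHom.mulSingle (fun _ : Fin m => T) i0).comp E.subtype |>.noncommCoprod
          ((MonoidHom.mulSingle (fun _ : Fin m => T) i1).comp E.subtype)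
          (fun a b => Pi.mulSingle_commute (by simp [i0, i1]) _ _)))
    have hΦ : Function.Injective Φ := by
      refine (injective_iff_map_eq_one Φ).2 fun x hx => ?_
      have h := e.symm.injective ((N.subtype_injective (hx.trans (map_one _).symm)).trans (map_one _).symm)
      have h0 := congrFun h i0
      have h1 := congrFun h i1
      change (Pi.mulSingle i0 (x.1 : T) : Fin m → T) i0 * (Pi.mulSingle i1 (x.2 : T) : Fin m → T) i0 = 1 at h0
      change (Pi.mulSingle i0 (x.1 : T) : Fin m → T) i1 * (Pi.mulSingle i1 (x.2 : T) : Fin m → T) i1 = 1 at h1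
      simp [i0, i1] at h0 h1
      exact Prod.ext h0 h1
    have hsq : ∀ a : ↥E, a * a = 1 := fun a => by
      have := Monoid.pow_exponent_eq_one a
      rwa [hE.exponent_two, pow_two] at this
    have hcm : ∀ a b : ↥E, a * b = b * a := fun a b => by
      have hi : ∀ x : ↥E, x⁻¹ = x := fun x => inv_eq_of_mul_eq_one_right (hsq x)
      rw [← hi (a * b), _root_.mul_inv_rev, hi, hi]
    have hcard := h2 Φ.range ⟨⟨fun a b => by
      obtain ⟨_, x, rfl⟩ := a
      obtain ⟨_, y, rfl⟩ := b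
      refine Subtype.ext ?_
      show Φ x * Φ y = Φ y * Φ x
      rw [← map_mul, ← map_mul]
      exact congrArg Φ (Prod.ext (hcm _ _) (hcm _ _))⟩⟩ (by
      rintro _ ⟨x, rfl⟩
      rw [← map_pow, pow_two, show x * x = 1 from Prod.ext (hsq _) (hsq _), map_one])
    rw [← Nat.card_congr (MonoidHom.ofInjective hΦ).toEquiv, Nat.card_prod, hE.card_four] at hcard
    norm_num at hcard
  subst hm1
  let e' : ↥N ≃* T := e.trans
    { toFun := fun f => f 0
      invFun := fun t _ => t
      left_inv := fun f => funext fun i => by rw [Subsingleton.elim i 0]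
      right_inv := fun _ => rfl
      map_mul' := fun _ _ => rfl }
  exact ⟨e'.isSimpleGroup, by rwa [Nat.card_congr e'.toEquiv]⟩

/-- the pair attached to a group without abelian normal subgroups -/
theorem exists_over (h2 : (2 : F) ≠ 0) (H : Subgroup PSL) (hH : H ≠ ⊥)
    (hN : ∀ N : Subgroup ↥H, N.Normal → IsMulCommutative ↥N → (∃ r : ℕ, r.Prime ∧ ∀ x ∈ N, x ^ r = 1) → N = ⊥) :
    ∃ G P : Subgroup GL3, Over G P ∧ Nonempty (Bar G ≃* ↥H) := by
  classical
  obtain ⟨ε⟩ := preimage_equiv H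
  set G := preimage H
  have hG := preimage_le H
  -- transfer the hypothesis to `Bar G`
  have hN' : ∀ M : Subgroup (Bar G), M.Normal → IsMulCommutative M →
      (∃ r : ℕ, r.Prime ∧ ∀ x ∈ M, x ^ r = 1) → M = ⊥ := fun M hM hc ⟨r, hr, hx⟩ => by
    have := hN (M.map ε.toMonoidHom) (hM.map _ ε.surjective) ⟨⟨by
      rintro ⟨_, a, ha, rfl⟩ ⟨_, b, hb, rfl⟩
      refine Subtype.ext ?_
      show ε a * ε b = ε b * ε a
      rw [← map_mul, ← map_mul, show a * b = b * a from congrArg Subtype.val (hc.is_comm.comm ⟨a, ha⟩ ⟨b, hb⟩)]⟩⟩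
      ⟨r, hr, by
        rintro _ ⟨a, ha, rfl⟩
        show ε a ^ r = 1
        rw [← map_pow, hx a ha, map_one]⟩
    exact (Subgroup.map_eq_bot_iff_of_injective _ ε.injective).1 this
  have h22 := pRankLE_two h2 hG
  have hne : (⊤ : Subgroup (Bar G)) ≠ ⊥ := fun h => hH (by
    rw [Subgroup.eq_bot_iff_forall]
    intro x hx
    obtain ⟨y, hy⟩ := ε.surjective ⟨x, hx⟩
    have : y = 1 := Subgroup.mem_bot.1 (h ▸ Subgroup.mem_top y)
    rw [this, map_one] at hy
    exact (congrArg Subtype.val hy).symm)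
  obtain ⟨N, hNn, -, hNne, hmin⟩ := Cfsg.Agent.Hall.exists_minimal_normal (⊤ : Subgroup (Bar G)) hne
  have hnsol : ¬ Group.IsSolvable N := fun hs => by
    obtain ⟨r, hr, -, -, he⟩ := Cfsg.Agent.Hall.minimal_normal_isElementaryAbelian hNne hmin
    exact hNne (hN' N hNn he.1 ⟨r, hr, he.2⟩)
  have hna : ¬ IsMulCommutative N := fun h => hnsol (by
    have := h
    exact Group.isSolvable_of_comm fun a b => h.is_comm.comm a b)
  obtain ⟨hNs, hNev⟩ := simple_of_minimal h22 hNne hmin hna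
  -- the centraliser of `N` is trivial
  have hCN : Subgroup.centralizer (N : Set (Bar G)) = ⊥ := by
    by_contra hC
    obtain ⟨M, hMn, hMC, hMne, hMmin⟩ :=
      Cfsg.Agent.Hall.exists_minimal_normal (Subgroup.centralizer (N : Set (Bar G))) hC
    have hMna : ¬ IsMulCommutative M := fun h => by
      have hs : Group.IsSolvable M := Group.isSolvable_of_comm fun a b => h.is_comm.comm a b
      obtain ⟨r, hr, -, -, he⟩ := Cfsg.Agent.Hall.minimal_normal_isElementaryAbelian hMne hMmin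
      exact hMne (hN' M hMn he.1 ⟨r, hr, he.2⟩)
    obtain ⟨hMs, hMev⟩ := simple_of_minimal h22 hMne hMmin hMna
    obtain ⟨E, hE⟩ := Cfsg.Agent.S0204.result (G := ↥N) fun h => hna ⟨⟨fun a b => by
      exact mul_comm' a b⟩⟩
    have : Fact (Nat.Prime 2) := ⟨Nat.prime_two⟩
    obtain ⟨t, ht⟩ := exists_prime_orderOf_dvd_card' (G := ↥M) 2 (even_iff_two_dvd.1 hMev)
    have hdisj : ∀ x : Bar G, x ∈ N → x ∈ M → x = 1 := fun x hxN hxM => by
      by_contra hx1
      rcases hmin (N ⊓ M) inferInstance inf_le_left with h | h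
      · exact hx1 (Subgroup.mem_bot.1 (h ▸ ⟨hxN, hxM⟩))
      · refine hna ⟨⟨fun a b => Subtype.ext ?_⟩⟩
        exact Subgroup.mem_centralizer_iff.1 (hMC (h.ge a.2).2) b b.2 |>.symm
    let Φ : ↥E × ↥(Subgroup.zpowers t) →* Bar G :=
      (N.subtype.comp E.subtype).noncommCoprod (M.subtype.comp (Subgroup.zpowers t).subtype)
        (fun a b => (Subgroup.mem_centralizer_iff.1 (hMC (b : ↥M).2) _ (a : ↥N).2))
    have hΦ : Function.Injective Φ := by
      refine (injective_iff_map_eq_one Φ).2 fun x hx => ?_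
      change ((x.1 : ↥N) : Bar G) * ((x.2 : ↥M) : Bar G) = 1 at hx
      have h1 : ((x.1 : ↥N) : Bar G) = 1 := hdisj _ (x.1 : ↥N).2 (by
        rw [show ((x.1 : ↥N) : Bar G) = (((x.2 : ↥M) : Bar G))⁻¹ from eq_inv_of_mul_eq_one_left hx]
        exact inv_mem (x.2 : ↥M).2)
      refine Prod.ext (Subtype.ext (Subtype.ext h1)) (Subtype.ext (Subtype.ext ?_))
      show (((x.2 : ↥M)) : Bar G) = 1
      simpa [h1] using hx
    have hsq : ∀ a : ↥E, a * a = 1 := fun a => by
      have := Monoid.pow_exponent_eq_one a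
      rwa [hE.exponent_two, pow_two] at this
    have htsq : ∀ a : ↥(Subgroup.zpowers t), a * a = 1 := fun a => by
      have h := pow_card_eq_one' (x := a)
      rwa [Nat.card_zpowers, ht, pow_two] at h
    have hcm : ∀ a b : ↥E, a * b = b * a := fun a b => by
      have hi : ∀ x : ↥E, x⁻¹ = x := fun x => inv_eq_of_mul_eq_one_right (hsq x)
      rw [← hi (a * b), _root_.mul_inv_rev, hi, hi]
    have hcard := h22 Φ.range ⟨⟨fun a b => by
      obtain ⟨_, x, rfl⟩ := a
      obtain ⟨_, y, rfl⟩ := b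
      refine Subtype.ext ?_
      show Φ x * Φ y = Φ y * Φ x
      rw [← map_mul, ← map_mul]
      exact congrArg Φ (Prod.ext (hcm _ _) (mul_comm' _ _))⟩⟩ (by
      rintro _ ⟨x, rfl⟩
      rw [← map_pow, pow_two, show x * x = 1 from Prod.ext (hsq _) (htsq _), map_one])
    rw [← Nat.card_congr (MonoidHom.ofInjective hΦ).toEquiv, Nat.card_prod, hE.card_four, Nat.card_zpowers, ht] at hcard
    norm_num at hcard
  -- the perfect preimage
  let π := QuotientGroup.mk' ((Cfsg.Geo.scalars (Fin 3) F).subgroupOf G)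
  let M₁ : Subgroup G := N.comap π
  let P₁ : Subgroup G := ⁅M₁, M₁⁆
  let P : Subgroup GL3 := P₁.map G.subtype
  have hNperf : ⁅N, N⁆ = N := by
    rcases hmin ⁅N, N⁆ inferInstance N.commutator_le_self with h | h
    · exact absurd (Subgroup.commutator_self_eq_bot_iff.1 h) hna
    · exact h
  have hP1N : P₁.map π = N := by
    rw [show P₁.map π = ⁅M₁.map π, M₁.map π⁆ from Subgroup.map_commutator _ _ _,
      Subgroup.map_comap_eq_self_of_surjective (QuotientGroup.mk'_surjective _), hNperf]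
  have hPG : P ≤ G := Subgroup.map_subtype_le _
  have hPle : P ≤ Cfsg.Geo.specialLinear (Fin 3) F := hPG.trans hG
  have hsplit : ∀ x ∈ M₁, ∃ a ∈ P₁, ∀ y : G, Commute (a⁻¹ * x) y := fun x hx => by
    obtain ⟨a, ha, e⟩ : π x ∈ P₁.map π := hP1N.ge hx
    refine ⟨a, ha, fun y => Subtype.ext ?_⟩
    have hs : ((a⁻¹ * x : G) : GL3) ∈ Cfsg.Geo.scalars (Fin 3) F :=
      Subgroup.mem_subgroupOf.1 (QuotientGroup.eq.1 e)
    exact (scalar_comm hs (y : GL3)).eq
  have hP1perf : ⁅P₁, P₁⁆ = P₁ := by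
    refine le_antisymm P₁.commutator_le_self (Subgroup.commutator_le.2 fun x hx y hy => ?_)
    obtain ⟨a, ha, hac⟩ := hsplit x hx
    obtain ⟨b, hb, hbc⟩ := hsplit y hy
    have e : ⁅x, y⁆ = ⁅a, b⁆ := by
      obtain ⟨z, rfl⟩ : ∃ z, x = a * z := ⟨a⁻¹ * x, (mul_inv_cancel_left a x).symm⟩
      obtain ⟨w, rfl⟩ : ∃ w, y = b * w := ⟨b⁻¹ * y, (mul_inv_cancel_left b y).symm⟩
      rw [inv_mul_cancel_left] at hac hbc
      simp only [commutatorElement_def, _root_.mul_inv_rev]
      calc a * z * (b * w) * (z⁻¹ * a⁻¹) * (w⁻¹ * b⁻¹)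
          = a * (z * (b * w) * z⁻¹) * a⁻¹ * (w⁻¹ * b⁻¹) := by group
        _ = a * (b * w) * a⁻¹ * (w⁻¹ * b⁻¹) := by rw [(hac (b * w)).eq, mul_inv_cancel_right]
        _ = a * b * (w * a⁻¹ * w⁻¹) * b⁻¹ := by group
        _ = a * b * a⁻¹ * b⁻¹ := by rw [(hbc a⁻¹).eq, mul_inv_cancel_right]
    rw [e]
    exact Subgroup.commutator_mem_commutator ha hb
  -- Bar P
  let θ : ↥P →* Bar G := π.comp (Subgroup.inclusion hPG)
  have hθ : θ.range = N := by
    refine le_antisymm ?_ fun y hy => ?_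
    · rintro _ ⟨⟨_, x, hx, rfl⟩, rfl⟩
      exact hP1N.le ⟨x, hx, rfl⟩
    · obtain ⟨x, hx, rfl⟩ := hP1N.ge hy
      exact ⟨⟨x, x, hx, rfl⟩, rfl⟩
  have hθk : θ.ker = (Cfsg.Geo.scalars (Fin 3) F).subgroupOf P := by
    ext x
    rw [MonoidHom.mem_ker, Subgroup.mem_subgroupOf]
    exact QuotientGroup.eq_one_iff _
  let η : Bar P ≃* ↥N := (QuotientGroup.quotientMulEquivOfEq hθk.symm).trans
    ((QuotientGroup.quotientKerEquivRange θ).trans (MulEquiv.subgroupCongr hθ))
  have hPs : IsSimpleGroup (Bar P) := η.isSimpleGroup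
  have hPna : ¬ IsMulCommutative (Bar P) := fun h => hna ⟨⟨fun a b => η.symm.injective (by
    rw [map_mul, map_mul]; exact h.is_comm.comm _ _)⟩⟩
  have hPperf : ⁅P, P⁆ = P := by rw [← Subgroup.map_commutator, hP1perf]
  refine ⟨G, P, ⟨⟨hPle, hPperf, hPs, hPna,
    irred_of_simple hPle hPperf hPs hPna (by rwa [Nat.card_congr η.toEquiv]) h2⟩, hG, hPG, ?_, ?_⟩, ⟨ε⟩⟩
  · rintro g hg _ ⟨x, hx, rfl⟩
    have hM₁ : M₁.Normal := hNn.comap π
    have hn : P₁.Normal := Subgroup.commutator_normal M₁ M₁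
    exact ⟨_, hn.conj_mem x hx ⟨g, hg⟩, rfl⟩
  · intro g hg hc
    have hmem : π ⟨g, hg⟩ ∈ Subgroup.centralizer (N : Set (Bar G)) := Subgroup.mem_centralizer_iff.2 fun y hy => by
      obtain ⟨x, hx, rfl⟩ := hP1N.ge hy
      have h := hc x ⟨x, hx, rfl⟩
      have h' : π (⟨g, hg⟩ * x * ⟨g, hg⟩⁻¹ * x⁻¹) = 1 :=
        (QuotientGroup.eq_one_iff _).2 (Subgroup.mem_subgroupOf.2 h)
      rw [map_mul, map_mul, map_mul, map_inv, map_inv, mul_inv_eq_one, mul_inv_eq_iff_eq_mul] at h'
      exact h'.symm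
    rw [hCN, Subgroup.mem_bot] at hmem
    exact mk_eq_one.1 hmem

end Cfsg.Agent.PSLThree
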