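import Mathlib
import Cfsg.Agent.Lib.PSLThree.Basic.Unip
import Cfsg.Agent.Lib.Classical.GL2

/-!
# `PSL₂(K)` in natural characteristic inside `PSL₃(F)` without transvections: the field embedding

The lifts `g a` of the unipotent elements are regular unipotents of one flag, `g a - 1 = f a • N + h a • N²`,
and `f` is an embedding of fields which is compatible with every scaling of the unipotent group induced
from the normaliser.
-/

set_option autoImplicit false

namespace Cfsg.Agent.PSLThree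

open Matrix
open scoped MatrixGroups
open Cfsg.Agent.Classical.GL2 (uniSL coe_uniSL uniHom)

variable {F : Type*} [Field F] {P : Subgroup (GL (Fin 3) F)}

local notation "GL3" => GL (Fin 3) F
local notation "Mat" => Matrix (Fin 3) (Fin 3) F
local notation "Sc" => Cfsg.Geo.scalars (Fin 3) F

/-- a scalar of `p`-power exponent one is trivial -/
theorem scalar_eq_one_of_char (p : ℕ) [Fact p.Prime] [CharP F p] {x : GL3} (hs : x ∈ Sc) (h : x ^ p = 1) :
    x = 1 := by
  obtain ⟨c, hc⟩ := (Cfsg.Geo.mem_scalars_iff x).1 hs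
  have := congrArg (fun m : GL3 => (m : Mat) 0 0) h
  simp only [Units.val_pow_eq_pow_val, hc, smul_pow, one_pow, Matrix.smul_apply, Matrix.one_apply_eq,
    Units.val_one, smul_eq_mul, mul_one] at this
  have hc1 : (c : F) = 1 := by
    rw [← sub_eq_zero]
    have := sub_pow_char (p := p) (c : F) 1
    rw [one_pow, ‹(c : F) ^ p = 1›, sub_self] at this
    exact eq_zero_of_pow_eq_zero this
  refine Units.ext ?_
  rw [hc, hc1, one_smul, Units.val_one]

/-- lifts killed by `p` are unique -/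
theorem lift_unique_char (p : ℕ) [Fact p.Prime] [CharP F p] {g h : GL3}
    (hgn : g ^ p = 1) (hhn : h ^ p = 1) (hs : g⁻¹ * h ∈ Sc) : g = h := by
  have hc : Commute g⁻¹ h := by
    have := scalar_comm hs g
    refine Commute.inv_left ?_
    show g * h = h * g
    calc g * h = g * (g * (g⁻¹ * h)) := by group
      _ = g * ((g⁻¹ * h) * g) := by rw [this.eq]
      _ = h * g := by group
  refine (inv_mul_eq_one.1 (scalar_eq_one_of_char p hs ?_))
  rw [hc.mul_pow, inv_pow, hgn, hhn, inv_one, one_mul]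

/-- lifts killed by `p` exist -/
theorem exists_lift_char (hP : P ≤ Cfsg.Geo.specialLinear (Fin 3) F) (p : ℕ) [Fact p.Prime] [CharP F p]
    {x : Bar P} (hx : x ^ p = 1) : ∃ (g : GL3) (hg : g ∈ P), g ^ p = 1 ∧ ((⟨g, hg⟩ : P) : Bar P) = x := by
  rcases eq_or_ne p 3 with rfl | h3
  · obtain ⟨g, hg, rfl⟩ := exists_rep x
    rw [← QuotientGroup.mk_pow, QuotientGroup.eq_one_iff, Subgroup.mem_subgroupOf] at hx
    refine ⟨g, hg, ?_, rfl⟩
    exact scalar_eq_one_of_char 3 hx (scalar_cube hP (pow_mem hg 3) hx)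
  · exact exists_lift hP ((Nat.coprime_primes (Fact.out : p.Prime) Nat.prime_three).2 h3) hx

/-- a nilpotent matrix commuting with a regular nilpotent one is a polynomial in it -/
theorem eq_poly_of_commute {N M : Mat} (h3 : N ^ 3 = 0) (h2 : N * N ≠ 0) (hM : M ^ 3 = 0)
    (hc : Commute M N) : ∃ a b : F, M = a • N + b • (N * N) := by
  obtain ⟨x, hx⟩ : ∃ x, N *ᵥ (N *ᵥ x) ≠ 0 := by
    by_contra h
    push Not at h
    exact h2 (Matrix.ext_iff_mulVec.2 fun x => by rw [← Matrix.mulVec_mulVec, h, Matrix.zero_mulVec])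
  have hz : N *ᵥ (N *ᵥ (N *ᵥ x)) = 0 := by
    rw [Matrix.mulVec_mulVec, Matrix.mulVec_mulVec, ← pow_three', h3, Matrix.zero_mulVec]
  have hli : LinearIndependent F ![x, N *ᵥ x, N *ᵥ (N *ᵥ x)] := by
    refine Fintype.linearIndependent_iff.2 fun c hc => ?_
    simp only [Fin.sum_univ_three, Matrix.cons_val_zero, Matrix.cons_val_one, Matrix.cons_val_two,
      Matrix.tail_cons, Matrix.head_cons] at hc
    have h2 := congrArg (fun y => N *ᵥ (N *ᵥ y)) hc
    simp only [Matrix.mulVec_add, Matrix.mulVec_smul, hz, Matrix.mulVec_zero, smul_zero, add_zero] at h2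
    have c0 := (smul_eq_zero.1 h2).resolve_right hx
    rw [c0, zero_smul, zero_add] at hc
    have h2' := congrArg (fun y => N *ᵥ y) hc
    simp only [Matrix.mulVec_add, Matrix.mulVec_smul, hz, Matrix.mulVec_zero, smul_zero, add_zero] at h2'
    have c1 := (smul_eq_zero.1 h2').resolve_right hx
    rw [c1, zero_smul, zero_add] at hc
    have c2 := (smul_eq_zero.1 hc).resolve_right hx
    intro i
    fin_cases i
    exacts [c0, c1, c2]
  have hsp := hli.span_eq_top_of_card_eq_finrank (by simp)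
  have hspan : ∀ y, ∃ a b c : F, a • x + b • (N *ᵥ x) + c • (N *ᵥ (N *ᵥ x)) = y := fun y => by
    obtain ⟨c, hc⟩ := (Submodule.mem_span_range_iff_exists_fun F).1 (hsp ▸ Submodule.mem_top : y ∈ _)
    exact ⟨c 0, c 1, c 2, by simpa [Fin.sum_univ_three] using hc⟩
  obtain ⟨e, a, b, he⟩ := hspan (M *ᵥ x)
  have hMN : ∀ y, M *ᵥ (N *ᵥ y) = N *ᵥ (M *ᵥ y) := fun y => by
    rw [Matrix.mulVec_mulVec, hc.eq, ← Matrix.mulVec_mulVec]
  have e1 : M *ᵥ (N *ᵥ x) = e • (N *ᵥ x) + a • (N *ᵥ (N *ᵥ x)) := by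
    rw [hMN, ← he]
    simp only [Matrix.mulVec_add, Matrix.mulVec_smul, hz, smul_zero, add_zero]
  have e2 : M *ᵥ (N *ᵥ (N *ᵥ x)) = e • (N *ᵥ (N *ᵥ x)) := by
    rw [hMN, e1]
    simp only [Matrix.mulVec_add, Matrix.mulVec_smul, hz, smul_zero, add_zero]
  have he0 : e = 0 := by
    have := congrArg (· *ᵥ (N *ᵥ (N *ᵥ x))) hM
    simp only [pow_three, ← Matrix.mulVec_mulVec, e2, Matrix.mulVec_smul, Matrix.zero_mulVec, smul_smul,
      smul_eq_zero, hx, or_false, mul_eq_zero, or_self] at this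
    exact this
  refine ⟨a, b, Matrix.ext_iff_mulVec.2 fun y => ?_⟩
  obtain ⟨r, s, t, rfl⟩ := hspan y
  subst he0
  simp only [zero_smul, zero_add] at he e1 e2
  simp only [Matrix.mulVec_add, Matrix.mulVec_smul, ← he, e1, e2, Matrix.add_mulVec, Matrix.smul_mulVec,
    ← Matrix.mulVec_mulVec, hz, Matrix.mulVec_zero, smul_zero, add_zero]

theorem coeff_unique {N : Mat} (h3 : N ^ 3 = 0) (h2 : N * N ≠ 0) {a b a' b' : F}
    (h : a • N + b • (N * N) = a' • N + b' • (N * N)) : a = a' ∧ b = b' := by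
  have h3' : N * (N * N) = 0 := by rw [← pow_three, h3]
  have e := congrArg (N * ·) h
  simp only [mul_add, Matrix.mul_smul, h3', smul_zero, add_zero] at e
  have ha : a = a' := smul_left_injective F h2 e
  subst ha
  exact ⟨rfl, smul_left_injective F h2 (add_left_cancel h)⟩

variable {K : Type*} [Field K]

/-- the image in `PSL₂(K)` of an elementary matrix -/
def uniBar (a : K) : Matrix.ProjectiveSpecialLinearGroup (Fin 2) K := QuotientGroup.mk (uniSL a)

theorem uniBar_add (a b : K) : uniBar (a + b) = uniBar a * uniBar b := by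
  rw [uniBar, uniBar, uniBar, ← QuotientGroup.mk_mul]
  exact congrArg _ (map_mul (uniHom K) (Multiplicative.ofAdd a) (Multiplicative.ofAdd b))

theorem uniBar_zero : uniBar (0 : K) = 1 := by
  have h := uniBar_add (0 : K) 0
  rw [add_zero] at h
  exact left_eq_mul.1 h

theorem uniBar_nat (a : K) (n : ℕ) : uniBar a ^ n = uniBar ((n : K) * a) := by
  induction n with
  | zero => simp [uniBar_zero]
  | succ n ih => rw [pow_succ, ih, ← uniBar_add, Nat.cast_succ, add_mul, one_mul]

theorem uniBar_injective : Function.Injective (uniBar : K → Matrix.ProjectiveSpecialLinearGroup (Fin 2) K) := by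
  intro a b h
  rw [uniBar, uniBar, QuotientGroup.eq, Matrix.SpecialLinearGroup.mem_center_iff] at h
  obtain ⟨r, -, hr⟩ := h
  have := congrFun (congrFun hr 0) 1
  simp [Matrix.scalar_apply, Matrix.SpecialLinearGroup.coe_inv, coe_uniSL, adjugate_fin_two,
    Matrix.mul_apply, Fin.sum_univ_two] at this
  linear_combination this

theorem exists_torus {t : K} (ht : t ≠ 0) :
    ∃ d : SL(2, K), ∀ a, d * uniSL a * d⁻¹ = uniSL (t * t * a) := by
  obtain ⟨d, hd⟩ : ∃ d : SL(2, K), (d : Matrix (Fin 2) (Fin 2) K) = !![t, 0; 0, t⁻¹] :=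
    ⟨⟨!![t, 0; 0, t⁻¹], by simp [det_fin_two, ht]⟩, rfl⟩
  refine ⟨d, fun a => Subtype.ext ?_⟩
  rw [Matrix.SpecialLinearGroup.coe_mul, Matrix.SpecialLinearGroup.coe_mul, Matrix.SpecialLinearGroup.coe_inv,
    coe_uniSL, coe_uniSL, hd, adjugate_fin_two]
  ext i j
  fin_cases i <;> fin_cases j <;> simp [Matrix.mul_apply, Fin.sum_univ_two, ht] <;> field_simp

variable (p : ℕ) [Fact p.Prime] [CharP F p] [CharP K p]

/-- the field embedding read off from the unipotent elements; `θ` runs over the automorphisms of `Bar P`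
induced from the normaliser -/
theorem exists_embedding (hP : P ≤ Cfsg.Geo.specialLinear (Fin 3) F) (hT : ¬ HasTrv P) (hp : p ≠ 2)
    (e : Bar P ≃* Matrix.ProjectiveSpecialLinearGroup (Fin 2) K) :
    ∃ ψ : K →+* F, ∀ (y : GL3) (hy : ∀ x ∈ P, y * x * y⁻¹ ∈ P) (θ : Bar P → Bar P)
      (_ : ∀ (x : GL3) (hx : x ∈ P), θ ((⟨x, hx⟩ : P) : Bar P) = ((⟨y * x * y⁻¹, hy x hx⟩ : P) : Bar P))
      (τ : K → K) (_ : ∀ a, e (θ (e.symm (uniBar a))) = uniBar (τ a)), ∀ a, ψ (τ a) = ψ (τ 1) * ψ a := by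
  classical
  have hU : ∀ a : K, e.symm (uniBar a) ^ p = 1 := fun a => by
    rw [← map_pow, uniBar_nat, CharP.cast_eq_zero K p, zero_mul, uniBar_zero, map_one]
  choose g hg hgp hgm using fun a => exists_lift_char hP p (hU a)
  -- lifts are determined by their images
  have huniq : ∀ {x : GL3} (hx : x ∈ P), x ^ p = 1 → ∀ a, ((⟨x, hx⟩ : P) : Bar P) = e.symm (uniBar a) →
      x = g a := fun hx hxp a h => lift_unique_char p hxp (hgp a) (mk_eq.1 (h.trans (hgm a).symm))
  have hcomm : ∀ a b, Commute (g a) (g b) := fun a b => by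
    have h : g a * g b * (g a)⁻¹ = g b := huniq (mul_mem (mul_mem (hg a) (hg b)) (inv_mem (hg a)))
      (by rw [conj_pow, hgp, mul_one, mul_inv_cancel]) b (by
        show ((⟨g a, hg a⟩ * ⟨g b, hg b⟩ * ⟨g a, hg a⟩⁻¹ : P) : Bar P) = _
        rw [QuotientGroup.mk_mul, QuotientGroup.mk_mul, QuotientGroup.mk_inv, hgm, hgm, ← map_inv, ← map_mul,
          ← map_mul, ← uniBar_add, add_comm a b, uniBar_add, mul_assoc, mul_inv_cancel, mul_one])
    show g a * g b = g b * g a
    calc g a * g b = (g a * g b * (g a)⁻¹) * g a := by group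
      _ = g b * g a := by rw [h]
  have hadd : ∀ a b, g (a + b) = g a * g b := fun a b => (huniq (mul_mem (hg a) (hg b))
    (by rw [(hcomm a b).mul_pow, hgp, hgp, mul_one]) (a + b) (by
      show ((⟨g a, hg a⟩ * ⟨g b, hg b⟩ : P) : Bar P) = _
      rw [QuotientGroup.mk_mul, hgm, hgm, ← map_mul, ← uniBar_add])).symm
  let Nf : K → Mat := fun a => (g a : Mat) - 1
  have hN3 : ∀ a, Nf a ^ 3 = 0 := fun a => sub_one_cube p (k := 1) (by rw [pow_one, hgp])
  have hN2 : ∀ a, a ≠ 0 → Nf a * Nf a ≠ 0 := fun a ha h => by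
    refine hT (hasTrv_of_sq_zero hP (hg a) (fun h1 => ha ?_) h)
    have h2 := hgm a
    rw [(mk_eq_one (hg := hg a)).2 (by rw [h1]; exact one_mem _)] at h2
    exact uniBar_injective ((e.symm.injective (h2.symm.trans (map_one e.symm).symm)).trans uniBar_zero.symm)
  have hNc : ∀ a, Commute (Nf a) (Nf 1) := fun a => by
    have h := congrArg Units.val (hcomm a 1).eq
    rw [Units.val_mul, Units.val_mul] at h
    show Nf a * Nf 1 = Nf 1 * Nf a
    simp only [Nf, sub_mul, mul_sub, mul_one, one_mul, h]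
    abel
  choose f h hf using fun a => eq_poly_of_commute (hN3 1) (hN2 1 one_ne_zero) (hN3 a) (hNc a)
  have key : ∀ {a b a' b' : F}, a • Nf 1 + b • (Nf 1 * Nf 1) = a' • Nf 1 + b' • (Nf 1 * Nf 1) → a = a' :=
    fun h => (coeff_unique (hN3 1) (hN2 1 one_ne_zero) h).1
  have hN31 : Nf 1 * (Nf 1 * Nf 1) = 0 := by rw [← pow_three, hN3]
  have hprod : ∀ a b, Nf a * Nf b = (f a * f b) • (Nf 1 * Nf 1) := fun a b => by
    rw [hf a, hf b]
    simp only [add_mul, mul_add, Matrix.smul_mul, Matrix.mul_smul, smul_smul, ← mul_assoc,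
      show Nf 1 * Nf 1 * Nf 1 = 0 by rw [mul_assoc, hN31], zero_mul, smul_zero, add_zero]
    rw [mul_comm]
  have hf_add : ∀ a b, f (a + b) = f a + f b := fun a b => by
    have e1 : Nf (a + b) = Nf a + Nf b + Nf a * Nf b := by
      simp only [Nf, hadd, Units.val_mul, sub_mul, mul_sub, mul_one, one_mul]
      abel
    rw [hprod, hf (a + b), hf a, hf b] at e1
    refine key (b := h (a + b)) (b' := h a + h b + f a * f b) (e1.trans ?_)
    module
  have hf1 : f 1 = 1 := key (b := h 1) (b' := 0) (by rw [← hf 1, zero_smul, one_smul, add_zero])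
  have hf0 : f 0 = 0 := by simpa using hf_add 0 0
  have hscale : ∀ (y : GL3) (hy : ∀ x ∈ P, y * x * y⁻¹ ∈ P) (θ : Bar P → Bar P)
      (_ : ∀ (x : GL3) (hx : x ∈ P), θ ((⟨x, hx⟩ : P) : Bar P) = ((⟨y * x * y⁻¹, hy x hx⟩ : P) : Bar P))
      (τ : K → K) (_ : ∀ a, e (θ (e.symm (uniBar a))) = uniBar (τ a)), ∀ a, f (τ a) = f (τ 1) * f a := by
    intro y hy θ hθ τ hτ a
    have hc : ∀ a, Nf (τ a) = (y : Mat) * Nf a * ((y⁻¹ : GL3) : Mat) := fun a => by
      have h1 : y * g a * y⁻¹ = g (τ a) := huniq (hy _ (hg a))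
        (by rw [conj_pow, hgp, mul_one, mul_inv_cancel]) _ (by
          rw [← hθ _ (hg a), hgm]
          exact e.injective (by rw [hτ, e.apply_symm_apply]))
      simp only [Nf, ← h1, Units.val_mul, mul_sub, sub_mul, mul_one, Units.mul_inv]
    have h11 : (y : Mat) * (Nf 1 * Nf 1) * ((y⁻¹ : GL3) : Mat) = Nf (τ 1) * Nf (τ 1) := by
      rw [hc]; simp only [mul_assoc, Units.inv_mul_cancel_left]
    have h2 : Nf (τ a) = f a • Nf (τ 1) + h a • (Nf (τ 1) * Nf (τ 1)) := by
      rw [← h11, hc a, hc 1, hf a]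
      simp only [mul_add, add_mul, Matrix.mul_smul, Matrix.smul_mul]
    rw [hprod, hf (τ a), hf (τ 1)] at h2
    refine key (b := h (τ a)) (b' := f a * h (τ 1) + h a * (f (τ 1) * f (τ 1))) (h2.trans ?_)
    module
  -- squares scale
  have hsq : ∀ t a : K, f (t * t * a) = f (t * t) * f a := fun t a => by
    rcases eq_or_ne t 0 with rfl | ht
    · simp [hf0]
    obtain ⟨d, hd⟩ : ∃ d : SL(2, K), ∀ a, d * uniSL a * d⁻¹ = uniSL (t * t * a) := exists_torus ht
    obtain ⟨y, hy, hym⟩ := exists_rep (e.symm (QuotientGroup.mk d))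
    have := hscale y (fun x hx => mul_mem (mul_mem hy hx) (inv_mem hy))
      (fun z => e.symm (QuotientGroup.mk d) * z * (e.symm (QuotientGroup.mk d))⁻¹)
      (fun x hx => by
        rw [← hym]
        rfl)
      (fun a => t * t * a) (fun a => by
        simp only [map_mul, map_inv, e.apply_symm_apply, uniBar, ← QuotientGroup.mk_mul, ← QuotientGroup.mk_inv]
        rw [hd]) a
    rwa [mul_one] at this
  have hf_sub : ∀ a b, f (a - b) = f a - f b := fun a b => by
    rw [eq_sub_iff_add_eq, ← hf_add, sub_add_cancel]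
  have hmul : ∀ c a, f (c * a) = f c * f a := fun c a => by
    have h2 : (2 : K) ≠ 0 := Ring.two_ne_zero (by rwa [ringChar.eq K p])
    have hc : c = (c + 1) / 2 * ((c + 1) / 2) - (c - 1) / 2 * ((c - 1) / 2) := by field_simp; ring
    rw [hc, sub_mul, hf_sub, hf_sub, hsq, hsq, sub_mul]
  let ψ : K →+* F :=
    { toFun := f, map_one' := hf1, map_zero' := hf0, map_add' := hf_add, map_mul' := hmul }
  exact ⟨ψ, fun y hy θ hθ τ hτ a => hscale y hy θ hθ τ hτ a⟩

end Cfsg.Agent.PSLThree
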